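import Mathlib
import Cfsg.Agent.SL3G.H1_NT

set_option autoImplicit false

/-!
Number-theoretic piece (NT) of the S2283 swarm (`SU_3(q)` generated by two conjugate regular
unipotents): in a field `F` with `q ^ 2` elements, `q ≥ 3`, `q ∉ {5, 8}`, a generator `α` of the
group of elements of norm one (`α ^ (q + 1) = 1`) has `α ^ 3` generating `F` as a field.  Also:
surjectivity of the norm `x ↦ x ^ (q + 1)` onto the fixed field of `x ↦ x ^ q`.
-/

namespace Cfsg.Agent.SU3G

open Cfsg.Agent.SL3G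

/-- the order of a proper subfield: `|K| ^ d = |F|` with `d ≥ 2` -/
theorem h1_su_card_subfield {F : Type*} [Field F] [Finite F] (K : Subfield F) (hK : K ≠ ⊤) :
    ∃ d : ℕ, 2 ≤ d ∧ Nat.card K ^ d = Nat.card F := by
  have h := Module.natCard_eq_pow_finrank (K := K) (V := F)
  refine ⟨Module.finrank K F, ?_, h.symm⟩
  by_contra hd
  push Not at hd
  have hsq := h1_sq_card_le K hK
  have hs : 2 ≤ Nat.card K := Finite.one_lt_card
  have h1 : Nat.card K ^ Module.finrank K F ≤ Nat.card K ^ 1 :=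
    Nat.pow_le_pow_right (by omega) (by omega)
  rw [pow_one, ← h] at h1
  nlinarith

/-- pure arithmetic: the only exceptions are `q = 5` and `q = 8` -/
theorem h1_su_arith (q s d : ℕ) (hq : 3 ≤ q) (hs : 2 ≤ s) (hd : 2 ≤ d) (hsd : s ^ d = q ^ 2)
    (hdvd : q + 1 ∣ 3 * (s - 1)) : q = 5 ∨ q = 8 := by
  have hle : q + 1 ≤ 3 * (s - 1) := Nat.le_of_dvd (by omega) hdvd
  rcases Nat.lt_or_ge d 3 with h3 | h3
  · -- d = 2
    have hd2 : d = 2 := by omega
    subst hd2
    have hsq : s = q := Nat.pow_left_injective (by norm_num : 2 ≠ 0) hsd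
    subst hsq
    left
    obtain ⟨c, hc⟩ := hdvd
    have hc3 : c < 3 := by
      by_contra hc3
      push Not at hc3
      have : (s + 1) * 3 ≤ (s + 1) * c := Nat.mul_le_mul_left _ hc3
      omega
    interval_cases c <;> omega
  · -- d ≥ 3
    right
    have h1 : s ^ 3 ≤ s ^ d := Nat.pow_le_pow_right (by omega) h3
    rw [hsd] at h1
    have hq' : q ≤ 3 * s - 4 := by omega
    have h2 : q ^ 2 ≤ (3 * s - 4) ^ 2 := Nat.pow_le_pow_left hq' 2
    have h3' : s ^ 3 ≤ (3 * s - 4) ^ 2 := le_trans h1 h2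
    have hs8 : s ≤ 8 := by
      by_contra hgt
      push Not at hgt
      obtain ⟨k, hk⟩ : ∃ k, 3 * s - 4 = k := ⟨_, rfl⟩
      rw [hk] at h3'
      have hk' : k < 3 * s := by omega
      have hk2 : k ^ 2 < (3 * s) ^ 2 := Nat.pow_lt_pow_left hk' (by norm_num)
      have hs3 : 9 * s ^ 2 ≤ s * s ^ 2 := Nat.mul_le_mul_right (s ^ 2) (by omega)
      have e1 : (3 * s) ^ 2 = 9 * s ^ 2 := by ring
      have e2 : s * s ^ 2 = s ^ 3 := by ring
      omega
    interval_cases s
    · norm_num at h3'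
    · norm_num at h3'
    · -- s = 4
      norm_num at h1 hq'
      have : 8 ≤ q := by
        by_contra hlt
        push Not at hlt
        have : q ^ 2 ≤ 7 ^ 2 := Nat.pow_le_pow_left (by omega) 2
        omega
      omega
    · norm_num at h3'
    · norm_num at h3'
    · norm_num at h3'
    · norm_num at h3'

/-- **(NT)** for `SU_3(q)`: a norm-one element `α ≠ -1` whose cube generates `F` -/
theorem h1_su_nt {F : Type*} [Field F] [Fintype F] (q : ℕ) (hF : Fintype.card F = q ^ 2)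
    (hq : 3 ≤ q) (h5 : q ≠ 5) (h8 : q ≠ 8) :
    ∃ α : F, α ^ (q + 1) = 1 ∧ α + 1 ≠ 0 ∧ Subfield.closure ({α ^ 3} : Set F) = ⊤ := by
  classical
  obtain ⟨g, hord⟩ := h1_exists_generator F
  rw [hF] at hord
  have hq2 : q ^ 2 - 1 = (q - 1) * (q + 1) := by
    obtain ⟨k, rfl⟩ : ∃ k, q = k + 1 := ⟨q - 1, by omega⟩
    simp only [Nat.add_sub_cancel]
    have : (k + 1) ^ 2 = k * (k + 1 + 1) + 1 := by ring
    omega
  -- key: `α ^ j = 1` forces `q + 1 ∣ j`
  have key : ∀ j : ℕ, ((g : F) ^ (q - 1)) ^ j = 1 → q + 1 ∣ j := by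
    intro j hj
    rw [← pow_mul] at hj
    have hj' : (g : F) ^ ((q - 1) * j) = (g : F) ^ 0 := by rw [hj, pow_zero]
    have hd := h1_dvd_of_pow_eq g ((q - 1) * j) 0 (by omega) hj'
    rw [hord, hq2, Nat.sub_zero] at hd
    exact (Nat.mul_dvd_mul_iff_left (by omega : 0 < q - 1)).1 hd
  have hα0 : (g : F) ^ (q - 1) ≠ 0 := pow_ne_zero _ g.ne_zero
  refine ⟨(g : F) ^ (q - 1), ?_, ?_, ?_⟩
  · rw [← pow_mul, ← hq2, ← hord, ← Units.val_pow_eq_pow_val, pow_orderOf_eq_one, Units.val_one]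
  · intro h
    have hneg : (g : F) ^ (q - 1) = -1 := by linear_combination h
    have hsq : ((g : F) ^ (q - 1)) ^ 2 = 1 := by rw [hneg]; ring
    have := Nat.le_of_dvd (by omega) (key 2 hsq)
    omega
  · by_contra hK
    obtain ⟨K, hKdef⟩ : ∃ K : Subfield F, K = Subfield.closure ({((g : F) ^ (q - 1)) ^ 3} : Set F) :=
      ⟨_, rfl⟩
    rw [← hKdef] at hK
    obtain ⟨d, hd2, hsd⟩ := h1_su_card_subfield K hK
    rw [Nat.card_eq_fintype_card (α := F), hF] at hsd
    have hmem : ((g : F) ^ (q - 1)) ^ 3 ∈ K := by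
      rw [hKdef]; exact Subfield.subset_closure (Set.mem_singleton _)
    have hpow := h1_pow_card K _ hmem
    have hs2 : 2 ≤ Nat.card K := Finite.one_lt_card
    obtain ⟨s, hsdef⟩ : ∃ s, s = Nat.card K := ⟨_, rfl⟩
    rw [← hsdef] at hpow hs2 hsd
    -- α ^ (3 * (s - 1)) = 1
    have h1 : ((g : F) ^ (q - 1)) ^ (3 * (s - 1)) = 1 := by
      have h3 : ((g : F) ^ (q - 1)) ^ (3 * (s - 1)) * ((g : F) ^ (q - 1)) ^ 3
          = ((g : F) ^ (q - 1)) ^ 3 := by
        rw [← pow_add]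
        have : 3 * (s - 1) + 3 = 3 * s := by omega
        rw [this, pow_mul]
        exact hpow
      have hne : ((g : F) ^ (q - 1)) ^ 3 ≠ 0 := pow_ne_zero _ hα0
      exact mul_right_cancel₀ hne (by rw [h3, one_mul])
    have hdvd := key _ h1
    rcases h1_su_arith q s d hq hs2 hd2 hsd hdvd with h | h
    · exact h5 h
    · exact h8 h

/-- the Frobenius `x ↦ x ^ q` is an involution of a field with `q ^ 2` elements -/
theorem h1_su_frob {F : Type*} [Field F] [Fintype F] (q : ℕ) (hF : Fintype.card F = q ^ 2)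
    (x : F) : (x ^ q) ^ q = x := by
  rw [← pow_mul, ← sq, ← hF]
  exact FiniteField.pow_card x

/-- the norm `x ↦ x ^ (q + 1)` maps onto the fixed field of `x ↦ x ^ q` -/
theorem h1_su_norm_surj {F : Type*} [Field F] [Fintype F] (q : ℕ) (hF : Fintype.card F = q ^ 2)
    (hq : 2 ≤ q) (c : F) (hc : c ^ q = c) : ∃ ε : F, ε ^ (q + 1) = c := by
  classical
  by_cases hc0 : c = 0
  · exact ⟨0, by rw [hc0]; exact zero_pow (by omega)⟩
  obtain ⟨g, hord⟩ := h1_exists_generator F
  rw [hF] at hord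
  have hq2 : q ^ 2 - 1 = (q - 1) * (q + 1) := by
    obtain ⟨k, rfl⟩ : ∃ k, q = k + 1 := ⟨q - 1, by omega⟩
    simp only [Nat.add_sub_cancel]
    have : (k + 1) ^ 2 = k * (k + 1 + 1) + 1 := by ring
    omega
  -- `c = g ^ k` for some `k`
  obtain ⟨k, hk⟩ : ∃ k : ℕ, (g : F) ^ k = c := by
    have hgen : ∀ u : Fˣ, u ∈ Subgroup.zpowers g := by
      intro u
      have hcard : Nat.card (Subgroup.zpowers g) = Nat.card Fˣ := by
        rw [Nat.card_zpowers, hord, Nat.card_eq_fintype_card, Fintype.card_units, hF]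
      have htop : Subgroup.zpowers g = ⊤ := Subgroup.eq_top_of_card_eq _ hcard
      rw [htop]; trivial
    have hu := hgen (Units.mk0 c hc0)
    rw [← mem_powers_iff_mem_zpowers] at hu
    obtain ⟨k, hk⟩ := hu
    refine ⟨k, ?_⟩
    have := congrArg (fun u : Fˣ => (u : F)) hk
    simpa using this
  -- `c ^ q = c` gives `q + 1 ∣ k`
  have hck : (g : F) ^ (k * q) = (g : F) ^ k := by rw [pow_mul, hk, hc]
  have hd := h1_dvd_of_pow_eq g (k * q) k (Nat.le_mul_of_pos_right k (by omega)) hck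
  rw [hord, hq2] at hd
  have hkq : k * q - k = k * (q - 1) := by
    obtain ⟨j, rfl⟩ : ∃ j, q = j + 1 := ⟨q - 1, by omega⟩
    simp only [Nat.add_sub_cancel]
    rw [Nat.mul_succ]; omega
  rw [hkq, mul_comm k (q - 1)] at hd
  have hd' : q + 1 ∣ k := (Nat.mul_dvd_mul_iff_left (by omega : 0 < q - 1)).1 hd
  obtain ⟨j, hj⟩ := hd'
  refine ⟨(g : F) ^ j, ?_⟩
  rw [← pow_mul, mul_comm, ← hj, hk]

/-- an element of norm `-1` -/
theorem h1_su_norm_neg_one {F : Type*} [Field F] [Fintype F] (q : ℕ)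
    (hF : Fintype.card F = q ^ 2) (hq : 2 ≤ q) : ∃ ε : F, ε ^ (q + 1) = -1 := by
  apply h1_su_norm_surj q hF hq
  -- `(-1) ^ q = -1`: clear for odd `q`; for even `q` the characteristic is `2`
  rcases Nat.even_or_odd q with he | ho
  · have h2 : (2 : F) = 0 := by
      obtain ⟨p, hp⟩ := CharP.exists F
      have := hp
      obtain ⟨m, hpp, hqm⟩ := FiniteField.card F p
      rw [hF] at hqm
      have h2q : 2 ∣ q ^ 2 := Dvd.dvd.pow he.two_dvd (by norm_num)
      rw [hqm] at h2q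
      have h2p : 2 ∣ p := Nat.Prime.dvd_of_dvd_pow Nat.prime_two h2q
      have hp2 : p = 2 := ((Nat.prime_dvd_prime_iff_eq Nat.prime_two hpp).1 h2p).symm
      subst hp2
      have := CharP.cast_eq_zero F 2
      exact_mod_cast this
    have hneg : (-1 : F) = 1 := by linear_combination -h2
    rw [hneg, one_pow]
  · exact ho.neg_one_pow

/-- `q` is a power of the characteristic -/
theorem h1_su_q_eq {F : Type*} [Field F] [Fintype F] (q : ℕ) (hF : Fintype.card F = q ^ 2) :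
    ∃ p f : ℕ, p.Prime ∧ CharP F p ∧ q = p ^ f := by
  obtain ⟨p, hp⟩ := CharP.exists F
  have hp' := hp
  obtain ⟨m, hpp, hqm⟩ := FiniteField.card F p
  rw [hF] at hqm
  have hdvd : q ∣ p ^ (m : ℕ) := by rw [← hqm]; exact dvd_pow_self q (by norm_num)
  obtain ⟨f, -, hf⟩ := (Nat.dvd_prime_pow hpp).1 hdvd
  exact ⟨p, f, hpp, hp', hf⟩

/-- the Frobenius `x ↦ x ^ q` is additive -/
theorem h1_su_add_pow {F : Type*} [Field F] [Fintype F] (q : ℕ) (hF : Fintype.card F = q ^ 2)
    (x y : F) : (x + y) ^ q = x ^ q + y ^ q := by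
  obtain ⟨p, f, hpp, hchar, rfl⟩ := h1_su_q_eq (F := F) q hF
  have : Fact p.Prime := ⟨hpp⟩
  exact add_pow_char_pow x y p f

/-- the Frobenius `x ↦ x ^ q` commutes with negation -/
theorem h1_su_neg_pow {F : Type*} [Field F] [Fintype F] (q : ℕ) (hF : Fintype.card F = q ^ 2)
    (x : F) : (-x) ^ q = -(x ^ q) := by
  have h := h1_su_add_pow q hF (-x) x
  have hq0 : q ≠ 0 := by
    rintro rfl
    have : 0 < Fintype.card F := Fintype.card_pos
    rw [hF] at this
    norm_num at this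
  rw [neg_add_cancel, zero_pow hq0] at h
  linear_combination -h

/-- the Frobenius `x ↦ x ^ q` commutes with subtraction -/
theorem h1_su_sub_pow {F : Type*} [Field F] [Fintype F] (q : ℕ) (hF : Fintype.card F = q ^ 2)
    (x y : F) : (x - y) ^ q = x ^ q - y ^ q := by
  rw [sub_eq_add_neg, h1_su_add_pow q hF, h1_su_neg_pow q hF, ← sub_eq_add_neg]

/-- the Frobenius `x ↦ x ^ q` as a ring homomorphism -/
noncomputable def h1_su_bar {F : Type*} [Field F] [Fintype F] (q : ℕ)
    (hF : Fintype.card F = q ^ 2) : F →+* F where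
  toFun x := x ^ q
  map_one' := one_pow q
  map_mul' x y := mul_pow x y q
  map_zero' := by
    have hq0 : q ≠ 0 := by
      rintro rfl
      have : 0 < Fintype.card F := Fintype.card_pos
      rw [hF] at this
      norm_num at this
    exact zero_pow hq0
  map_add' x y := h1_su_add_pow q hF x y

@[simp] theorem h1_su_bar_apply {F : Type*} [Field F] [Fintype F] (q : ℕ)
    (hF : Fintype.card F = q ^ 2) (x : F) : h1_su_bar q hF x = x ^ q := rfl

/-- trace and norm land in the fixed field -/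
theorem h1_su_trace_fixed {F : Type*} [Field F] [Fintype F] (q : ℕ)
    (hF : Fintype.card F = q ^ 2) (x : F) : (x + x ^ q) ^ q = x + x ^ q := by
  rw [h1_su_add_pow q hF, h1_su_frob q hF]; ring

theorem h1_su_norm_fixed {F : Type*} [Field F] [Fintype F] (q : ℕ)
    (hF : Fintype.card F = q ^ 2) (x : F) : (x * x ^ q) ^ q = x * x ^ q := by
  rw [mul_pow, h1_su_frob q hF]; ring

/-- **(NT)**, second form: `α * α ^ q = 1`, `α ≠ -1` -/
theorem h1_su_nt' {F : Type*} [Field F] [Fintype F] (q : ℕ) (hF : Fintype.card F = q ^ 2)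
    (hq : 3 ≤ q) (h5 : q ≠ 5) (h8 : q ≠ 8) :
    ∃ α : F, α * α ^ q = 1 ∧ α ≠ -1 ∧ α ≠ 0 ∧ Subfield.closure ({α ^ 3} : Set F) = ⊤ := by
  obtain ⟨α, h1, h2, h3⟩ := h1_su_nt q hF hq h5 h8
  refine ⟨α, ?_, ?_, ?_, h3⟩
  · rw [← pow_succ'] ; exact h1
  · intro h; apply h2; rw [h]; ring
  · rintro rfl
    rw [zero_pow (by omega)] at h1
    exact zero_ne_one h1

end Cfsg.Agent.SU3G
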