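import Mathlib
import Cfsg.Agent.SU3G.H1_NT

set_option autoImplicit false

/-!
Trace gadgets for the S2283 swarm: in a field `F` with `q ^ 2` elements there is `ω` with
`ω + ω ^ q = 1`; hence the trace `x ↦ x + x ^ q` is onto the fixed field of `x ↦ x ^ q`, and
every element of trace zero is of the form `a ^ q - a` (additive Hilbert 90).
-/

namespace Cfsg.Agent.SU3G

open Cfsg.Agent.SL3G

/-- some element is moved by the Frobenius `x ↦ x ^ q` -/
theorem h1_su_exists_moved {F : Type*} [Field F] [Fintype F] (q : ℕ)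
    (hF : Fintype.card F = q ^ 2) (hq : 2 ≤ q) : ∃ y : F, y ^ q ≠ y := by
  classical
  obtain ⟨g, hord⟩ := h1_exists_generator F
  rw [hF] at hord
  refine ⟨(g : F), ?_⟩
  intro h
  have h' : (g : F) ^ q = (g : F) ^ 1 := by rw [h, pow_one]
  have hd := h1_dvd_of_pow_eq g q 1 (by omega) h'
  rw [hord] at hd
  have hle := Nat.le_of_dvd (by omega) hd
  have : q * 2 ≤ q * q := Nat.mul_le_mul_left q hq
  have e : q ^ 2 = q * q := sq q
  omega

/-- an element of trace one -/
theorem h1_su_trace_one {F : Type*} [Field F] [Fintype F] (q : ℕ)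
    (hF : Fintype.card F = q ^ 2) (hq : 2 ≤ q) : ∃ ω : F, ω + ω ^ q = 1 := by
  by_cases h2 : (2 : F) = 0
  · -- characteristic two
    obtain ⟨y, hy⟩ := h1_su_exists_moved q hF hq
    have hneg : ∀ x : F, -x = x := by
      intro x
      have : x + x = 0 := by linear_combination x * h2
      linear_combination -this
    have ht : y + y ^ q ≠ 0 := by
      intro h
      apply hy
      have : y ^ q = -y := by linear_combination h
      rw [this, hneg]
    have htq : (y + y ^ q) ^ q = y + y ^ q := h1_su_trace_fixed q hF y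
    refine ⟨y / (y + y ^ q), ?_⟩
    rw [div_pow, htq, ← add_div, div_self ht]
  · -- odd characteristic: `ω = 1 / 2`
    have h2q : (2 : F) ^ q = 2 := by
      have h := h1_su_add_pow q hF (1 : F) 1
      rw [one_pow] at h
      have e : (1 : F) + 1 = 2 := by norm_num
      rw [e] at h
      exact h
    refine ⟨1 / 2, ?_⟩
    rw [div_pow, one_pow, h2q]
    field_simp
    norm_num

/-- the trace `x ↦ x + x ^ q` is onto the fixed field -/
theorem h1_su_trace_surj {F : Type*} [Field F] [Fintype F] (q : ℕ)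
    (hF : Fintype.card F = q ^ 2) (hq : 2 ≤ q) (c : F) (hc : c ^ q = c) :
    ∃ b : F, b + b ^ q = c := by
  obtain ⟨ω, hω⟩ := h1_su_trace_one q hF hq
  refine ⟨c * ω, ?_⟩
  rw [mul_pow, hc]
  linear_combination c * hω

/-- additive Hilbert 90: trace zero elements are of the form `a ^ q - a` -/
theorem h1_su_hilbert90 {F : Type*} [Field F] [Fintype F] (q : ℕ)
    (hF : Fintype.card F = q ^ 2) (hq : 2 ≤ q) (c : F) (hc : c + c ^ q = 0) :
    ∃ a : F, a ^ q - a = c := by
  obtain ⟨ω, hω⟩ := h1_su_trace_one q hF hq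
  refine ⟨-(c * ω), ?_⟩
  have hcq : c ^ q = -c := by linear_combination hc
  rw [h1_su_neg_pow q hF, mul_pow, hcq]
  linear_combination c * hω

/-- for every `a` there is `b` with `b + b ^ q + a * a ^ q = 0` -/
theorem h1_su_exists_b {F : Type*} [Field F] [Fintype F] (q : ℕ)
    (hF : Fintype.card F = q ^ 2) (hq : 2 ≤ q) (a : F) :
    ∃ b : F, b + b ^ q + a * a ^ q = 0 := by
  have hfix : (-(a * a ^ q)) ^ q = -(a * a ^ q) := by
    rw [h1_su_neg_pow q hF, h1_su_norm_fixed q hF]
  obtain ⟨b, hb⟩ := h1_su_trace_surj q hF hq _ hfix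
  exact ⟨b, by linear_combination hb⟩

end Cfsg.Agent.SU3G
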