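import Mathlib
import Cfsg.Agent.SU3G.H1_Trace

set_option autoImplicit false

/-!
NT interface of the S2283 swarm, with the exact names and shapes of the blueprint stubs:
`nt_alpha`, `nt_eps`, `nt_trace`.
-/

namespace Cfsg.Agent.SU3G

variable {F : Type*} [Field F] [Fintype F] {q : ℕ}

/-- `2 ≤ q` as soon as a field has `q ^ 2` elements -/
theorem h1_su_two_le (hF : Fintype.card F = q ^ 2) : 2 ≤ q := by
  by_contra h
  push Not at h
  have h1 : 1 < Fintype.card F := Fintype.one_lt_card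
  rw [hF] at h1
  interval_cases q <;> norm_num at h1

/-- `(-1) ^ q = -1` in a field with `q ^ 2` elements -/
theorem h1_su_neg_one_pow (hF : Fintype.card F = q ^ 2) : (-1 : F) ^ q = -1 := by
  rw [h1_su_neg_pow q hF, one_pow]

theorem nt_alpha (hF : Fintype.card F = q ^ 2) (hq : 3 ≤ q) (h5 : q ≠ 5) (h8 : q ≠ 8) :
    ∃ α : F, α ^ (q + 1) = 1 ∧ α + 1 ≠ 0 ∧ Subfield.closure ({α ^ 3} : Set F) = ⊤ :=
  h1_su_nt q hF hq h5 h8

theorem nt_eps (hF : Fintype.card F = q ^ 2) : ∃ ε : F, ε ^ (q + 1) = -1 :=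
  h1_su_norm_neg_one q hF (h1_su_two_le hF)

theorem nt_trace (hF : Fintype.card F = q ^ 2) : ∃ c : F, c ^ q + c = -1 := by
  obtain ⟨b, hb⟩ := h1_su_trace_surj q hF (h1_su_two_le hF) (-1) (h1_su_neg_one_pow hF)
  exact ⟨b, by rw [add_comm]; exact hb⟩

end Cfsg.Agent.SU3G
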