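import Cfsg.Agent.SU3G.Base

/-!
# S2283 swarm, piece MOD (helper5)

`Aset q H = {a | ∃ b, U q a b ∈ H}` is an additive subgroup of `F`; an upper triangular `w ∈ H ≤ SUJ`
multiplies it by `w₀₀ / w₁₁`; if it contains a non-zero element and is stable under a scalar generating `F`,
it is all of `F`.
-/

set_option autoImplicit false

namespace Cfsg.Agent.SU3G

open Matrix Cfsg

variable {F : Type*} [Field F] [Fintype F] {q : ℕ}

theorem h5_neg_pow_q (hF : Fintype.card F = q ^ 2) (a : F) : (-a) ^ q = -(a ^ q) := by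
  have h1 := Cfsg.Agent.Helper7.Herm.add_pow_q hF (-a) a
  have hq : q ≠ 0 := by
    have := Cfsg.Agent.Helper7.Herm.one_le_q hF
    omega
  rw [neg_add_cancel, zero_pow hq] at h1
  exact eq_neg_of_add_eq_zero_left h1.symm

theorem h5_U_mul (hF : Fintype.card F = q ^ 2) (a b a' b' : F) :
    U q a b * U q a' b' = U q (a + a') (b + b' - a * a' ^ q) := by
  ext i j
  simp only [U_coe, Cfsg.Agent.Helper7.Herm.add_pow_q hF]
  fin_cases i <;> fin_cases j <;> simp [Matrix.mul_apply, Fin.sum_univ_three] <;> ring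

theorem h5_U_zero (hF : Fintype.card F = q ^ 2) : U q (0 : F) 0 = 1 := by
  have hq : q ≠ 0 := by
    have := Cfsg.Agent.Helper7.Herm.one_le_q hF
    omega
  ext i j
  simp only [U_coe]
  fin_cases i <;> fin_cases j <;> simp [zero_pow hq]

theorem h5_U_inv (hF : Fintype.card F = q ^ 2) (a b : F) :
    (U q a b)⁻¹ = U q (-a) (-b - a * a ^ q) := by
  apply inv_eq_of_mul_eq_one_right
  rw [h5_U_mul hF, h5_neg_pow_q hF]
  have : b + (-b - a * a ^ q) - a * -(a ^ q) = 0 := by ring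
  rw [this, add_neg_cancel, h5_U_zero hF]

theorem h5_Aset_zero (hF : Fintype.card F = q ^ 2) (H : Subgroup (SpecialLinearGroup (Fin 3) F)) :
    (0 : F) ∈ Aset q H := ⟨0, by rw [h5_U_zero hF]; exact H.one_mem⟩

theorem h5_Aset_sub (hF : Fintype.card F = q ^ 2) (H : Subgroup (SpecialLinearGroup (Fin 3) F))
    (a a' : F) (ha : a ∈ Aset q H) (ha' : a' ∈ Aset q H) : a - a' ∈ Aset q H := by
  obtain ⟨b, hb⟩ := ha
  obtain ⟨b', hb'⟩ := ha'
  have h := H.mul_mem hb (H.inv_mem hb')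
  rw [h5_U_inv hF, h5_U_mul hF] at h
  exact ⟨_, by rw [sub_eq_add_neg]; exact h⟩

/-- `Aset q H` as an additive subgroup of `F`. -/
def h5_AsetAdd (hF : Fintype.card F = q ^ 2) (H : Subgroup (SpecialLinearGroup (Fin 3) F)) : AddSubgroup F :=
  AddSubgroup.ofSub (Aset q H) ⟨0, h5_Aset_zero hF H⟩ (fun {a} ha {a'} ha' => by rw [← sub_eq_add_neg]; exact h5_Aset_sub hF H a a' ha ha')

theorem h5_mem_AsetAdd (hF : Fintype.card F = q ^ 2) (H : Subgroup (SpecialLinearGroup (Fin 3) F)) (a : F) :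
    a ∈ h5_AsetAdd hF H ↔ a ∈ Aset q H := Iff.rfl

/-- Scalars stabilising an additive subgroup of a finite field `F` form a subfield: if `σ` stabilises `A` and
`σ` generates `F`, every scalar stabilises `A`. -/
theorem h5_mul_mem_of_closure (A : AddSubgroup F) (σ : F)
    (hσ : ∀ p ∈ A, σ * p ∈ A) (hcl : Subfield.closure ({σ} : Set F) = ⊤) (k : F) :
    ∀ p ∈ A, k * p ∈ A := by
  have hk : k ∈ Subfield.closure ({σ} : Set F) := by rw [hcl]; trivial
  have hpow : ∀ (x : F), (∀ p ∈ A, x * p ∈ A) → ∀ m : ℕ, ∀ p ∈ A, (x ^ m) * p ∈ A := by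
    intro x hx m
    induction m with
    | zero => intro p hp; simpa using hp
    | succ m ih =>
      intro p hp
      rw [pow_succ, mul_assoc]
      exact ih _ (hx p hp)
  induction hk using Subfield.closure_induction with
  | mem x hx =>
    rw [Set.mem_singleton_iff] at hx
    subst hx
    exact hσ
  | one => intro p hp; simpa using hp
  | add x y _ _ hx hy =>
    intro p hp
    rw [add_mul]
    exact A.add_mem (hx p hp) (hy p hp)
  | neg x _ hx =>
    intro p hp
    rw [neg_mul]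
    exact A.neg_mem (hx p hp)
  | inv x _ hx =>
    intro p hp
    by_cases h0 : x = 0
    · subst h0
      simp
    · have h1 : x ^ (Fintype.card F - 1) = 1 := FiniteField.pow_card_sub_one_eq_one x h0
      have h2 : 2 ≤ Fintype.card F := Fintype.one_lt_card
      have h3 : x⁻¹ = x ^ (Fintype.card F - 2) := by
        have : x * x ^ (Fintype.card F - 2) = 1 := by
          rw [← pow_succ']
          have : Fintype.card F - 2 + 1 = Fintype.card F - 1 := by omega
          rw [this, h1]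
        exact inv_eq_of_mul_eq_one_right this
      rw [h3]
      exact hpow x hx _ p hp
  | mul x y _ _ hx hy =>
    intro p hp
    rw [mul_assoc]
    exact hx _ (hy p hp)

/-- **MOD (2)**: an `Aset` containing a non-zero element and stable under a generating scalar is all of `F`. -/
theorem Aset_univ (hF : Fintype.card F = q ^ 2)
    (H : Subgroup (SpecialLinearGroup (Fin 3) F))
    (a₀ : F) (ha₀ : a₀ ≠ 0) (hmem : a₀ ∈ Aset q H) (s : F)
    (hs : ∀ a ∈ Aset q H, s * a ∈ Aset q H) (hcl : Subfield.closure ({s} : Set F) = ⊤) :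
    ∀ a : F, a ∈ Aset q H := by
  intro a
  have h := h5_mul_mem_of_closure (h5_AsetAdd hF H) s hs hcl (a / a₀) a₀ hmem
  rw [div_mul_cancel₀ a ha₀] at h
  exact h

/-- An upper unitriangular element of `SUJ` is a `U q x y`. -/
theorem h5_uni_SUJ (hF : Fintype.card F = q ^ 2) (M : SpecialLinearGroup (Fin 3) F) (hM : M ∈ SUJ F q)
    (x y z : F) (hMat : (M : Matrix (Fin 3) (Fin 3) F) = !![1, x, y; 0, 1, z; 0, 0, 1]) : z = -(x ^ q) := by
  have hq : q ≠ 0 := by
    have := Cfsg.Agent.Helper7.Herm.one_le_q hF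
    omega
  have h := (mem_SUJ M).1 hM ![0, 1, 0] ![0, 0, 1]
  rw [hMat] at h
  simp [hJ, Matrix.mulVec, dotProduct, Fin.sum_univ_three, zero_pow hq] at h
  -- h : x + z ^ q = 0
  have hz : z ^ q = -x := by linear_combination h
  have := Cfsg.Agent.Helper7.Herm.pow_q_pow_q hF z
  rw [hz, h5_neg_pow_q hF] at this
  exact this.symm

omit [Fintype F] in
theorem h5_conj_lit (w00 w01 w02 w11 w12 w22 a b c : F) :
    let L := !![w00,w01,w02;0,w11,w12;0,0,w22] * !![1,a,b;0,1,c;0,0,1] *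
      adjugate !![w00,w01,w02;0,w11,w12;0,0,w22]
    L = !![w00*w11*w22, w00^2*w22*a, L 0 2; 0, w00*w11*w22, L 1 2; 0, 0, w00*w11*w22] := by
  intro L
  ext i j
  fin_cases i <;> fin_cases j <;> simp [L, adjugate_fin_three_of] <;> ring

/-- **MOD (1)**: an upper triangular `w ∈ H ≤ SUJ` multiplies `Aset q H` by `w₀₀ / w₁₁`. -/
theorem Aset_mul_of_upper (hF : Fintype.card F = q ^ 2)
    (H : Subgroup (SpecialLinearGroup (Fin 3) F)) (hH : H ≤ SUJ F q)
    (w : SpecialLinearGroup (Fin 3) F) (hw : w ∈ H)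
    (h10 : (w : Matrix (Fin 3) (Fin 3) F) 1 0 = 0) (h20 : (w : Matrix (Fin 3) (Fin 3) F) 2 0 = 0)
    (h21 : (w : Matrix (Fin 3) (Fin 3) F) 2 1 = 0) (a : F) (ha : a ∈ Aset q H) :
    (w : Matrix (Fin 3) (Fin 3) F) 0 0 / (w : Matrix (Fin 3) (Fin 3) F) 1 1 * a ∈ Aset q H := by
  obtain ⟨b, hb⟩ := ha
  have hWeq : (w : Matrix (Fin 3) (Fin 3) F) =
      !![(w : Matrix (Fin 3) (Fin 3) F) 0 0, (w : Matrix (Fin 3) (Fin 3) F) 0 1, (w : Matrix (Fin 3) (Fin 3) F) 0 2;
         0, (w : Matrix (Fin 3) (Fin 3) F) 1 1, (w : Matrix (Fin 3) (Fin 3) F) 1 2;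
         0, 0, (w : Matrix (Fin 3) (Fin 3) F) 2 2] := by
    ext i j
    fin_cases i <;> fin_cases j <;> simp [h10, h20, h21]
  generalize hw00 : (w : Matrix (Fin 3) (Fin 3) F) 0 0 = w00 at hWeq ⊢
  generalize hw01 : (w : Matrix (Fin 3) (Fin 3) F) 0 1 = w01 at hWeq
  generalize hw02 : (w : Matrix (Fin 3) (Fin 3) F) 0 2 = w02 at hWeq
  generalize hw11 : (w : Matrix (Fin 3) (Fin 3) F) 1 1 = w11 at hWeq ⊢
  generalize hw12 : (w : Matrix (Fin 3) (Fin 3) F) 1 2 = w12 at hWeq
  generalize hw22 : (w : Matrix (Fin 3) (Fin 3) F) 2 2 = w22 at hWeq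
  have hdet : w00 * w11 * w22 = 1 := by
    have h := w.2
    rw [hWeq, det_fin_three] at h
    simp at h
    linear_combination h
  have h11 : w11 ≠ 0 := by
    intro h
    rw [h] at hdet
    simp at hdet
  have hM : w * U q a b * w⁻¹ ∈ H := H.mul_mem (H.mul_mem hw hb) (H.inv_mem hw)
  have hMcoe : ((w * U q a b * w⁻¹ : SpecialLinearGroup (Fin 3) F) : Matrix (Fin 3) (Fin 3) F) =
      !![w00,w01,w02;0,w11,w12;0,0,w22] * !![1,a,b;0,1,-(a ^ q);0,0,1] *
        adjugate !![w00,w01,w02;0,w11,w12;0,0,w22] := by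
    rw [Matrix.SpecialLinearGroup.coe_mul, Matrix.SpecialLinearGroup.coe_mul,
      Matrix.SpecialLinearGroup.coe_inv, U_coe, hWeq]
  have hlit := h5_conj_lit w00 w01 w02 w11 w12 w22 a b (-(a ^ q))
  simp only at hlit
  rw [← hMcoe] at hlit
  have e1 : w00 ^ 2 * w22 * a = w00 / w11 * a := by
    field_simp
    linear_combination (w00 * a) * hdet
  rw [hdet, e1] at hlit
  have hz := h5_uni_SUJ hF _ (hH hM) _ _ _ hlit
  refine ⟨((w * U q a b * w⁻¹ : SpecialLinearGroup (Fin 3) F) : Matrix (Fin 3) (Fin 3) F) 0 2, ?_⟩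
  have hEq : U q (w00 / w11 * a)
      (((w * U q a b * w⁻¹ : SpecialLinearGroup (Fin 3) F) : Matrix (Fin 3) (Fin 3) F) 0 2) =
      w * U q a b * w⁻¹ := by
    ext i j
    rw [U_coe, ← hz]
    conv_rhs => rw [hlit]
  rw [hEq]
  exact hM

end Cfsg.Agent.SU3G
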