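import Mathlib
import Cfsg.Prelude.Def_Classical
import Cfsg.Prelude.Def_ClassicalGeometry
import Cfsg.Agent.Helper7.Hermitian

/-!
# S2283 swarm (architect helper9): `SU_3(q)` in the antidiagonal form — basic definitions

`hJ q x y = x₀ ȳ₂ + x₁ ȳ₁ + x₂ ȳ₀` with `ȳ = y ^ q`.  `SUJ F q ≤ SL(3,F)` is its isometry group.
`U q a b = !![1,a,b; 0,1,-(a^q); 0,0,1]` (in `SUJ` iff `b + b^q + a*a^q = 0`).
-/

set_option autoImplicit false

namespace Cfsg.Agent.SU3G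

open Matrix Cfsg

variable {F : Type*} [Field F]

/-- The antidiagonal Hermitian form on `F³` (`ȳ = y ^ q`). -/
def hJ (q : ℕ) (x y : Fin 3 → F) : F := x 0 * (y 2) ^ q + x 1 * (y 1) ^ q + x 2 * (y 0) ^ q

/-- `SU_3` for the form `hJ`, as a subgroup of `SL(3,F)`. -/
def SUJ (F : Type*) [Field F] (q : ℕ) : Subgroup (SpecialLinearGroup (Fin 3) F) :=
  preserving (slToMat 3 F) (hJ q)

theorem mem_SUJ {q : ℕ} (M : SpecialLinearGroup (Fin 3) F) :
    M ∈ SUJ F q ↔ ∀ x y : Fin 3 → F, hJ q (M.1 *ᵥ x) (M.1 *ᵥ y) = hJ q x y := Iff.rfl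

/-- upper unitriangular element `U(a,b)` -/
def U (q : ℕ) (a b : F) : SpecialLinearGroup (Fin 3) F :=
  ⟨!![1, a, b; 0, 1, -(a ^ q); 0, 0, 1], by simp [det_fin_three]⟩

@[simp] theorem U_coe (q : ℕ) (a b : F) :
    ((U q a b : SpecialLinearGroup (Fin 3) F) : Matrix (Fin 3) (Fin 3) F) = !![1, a, b; 0, 1, -(a ^ q); 0, 0, 1] := rfl

/-- the set of `(1,2)`-entries of the elements `U(a,b)` of `H` -/
def Aset (q : ℕ) (H : Subgroup (SpecialLinearGroup (Fin 3) F)) : Set F := {a | ∃ b, U q a b ∈ H}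

/-- The goal in the antidiagonal model. -/
def JGoal (F : Type*) [Field F] (q : ℕ) : Prop :=
  ∃ u g : SpecialLinearGroup (Fin 3) F, u ∈ SUJ F q ∧ g ∈ SUJ F q ∧ (∃ a b : F, a ≠ 0 ∧ u = U q a b) ∧
    Subgroup.closure ({u, g * u * g⁻¹} : Set (SpecialLinearGroup (Fin 3) F)) = SUJ F q

end Cfsg.Agent.SU3G
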