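import Mathlib
import Cfsg.Agent.SU3G.Base
import Cfsg.Agent.SU3G.H1_NTIface
import Cfsg.Agent.S0780

set_option autoImplicit false
set_option linter.unusedSectionVars false
set_option linter.unusedVariables false

/-!
# S2283 swarm, piece TR (helper4): transport between the antidiagonal form and the standard form

`P = !![1, 0, 1 + c; l, 0, c * l; 0, 1, 0]` with `l ^ (q + 1) = -1`, `c ^ q + c = -1` satisfies
`hermForm 3 F q (P x) (P y) = hJ q x y`, so `M ↦ P M P⁻¹` maps `SUJ F q` onto `SU 3 F q` and the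
`hJ`-transvections onto the unitary transvections.  With the landed S0780 (`SU_n(q)` is generated by
its unitary transvections) this gives `tr_transvections`; `tr_goal` transports `JGoal F q` to the
conclusion of S2283.
-/

namespace Cfsg.Agent.SU3G

open Matrix Cfsg Cfsg.Agent.Helper7.Herm

variable {F : Type*} [Field F]

/-- the basis change matrix. -/
def h4_P (l c : F) : Matrix (Fin 3) (Fin 3) F := !![1, 0, 1 + c; l, 0, c * l; 0, 1, 0]

/-- its inverse. -/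
def h4_P' (l c : F) : Matrix (Fin 3) (Fin 3) F := !![-c, (1 + c) * l⁻¹, 0; 0, 0, 1; 1, -l⁻¹, 0]

theorem h4_P_mul_P' (l c : F) (hl : l ≠ 0) : h4_P l c * h4_P' l c = 1 := by
  unfold h4_P h4_P'
  ext i j
  fin_cases i <;> fin_cases j <;> simp [Matrix.mul_apply, Fin.sum_univ_three, hl] <;> field_simp <;> ring

theorem h4_P'_mul_P (l c : F) (hl : l ≠ 0) : h4_P' l c * h4_P l c = 1 := by
  unfold h4_P h4_P'
  ext i j
  fin_cases i <;> fin_cases j <;> simp [Matrix.mul_apply, Fin.sum_univ_three, hl] <;> field_simp <;> ring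

/-- conjugation by an invertible matrix as an endomorphism of `SL₃(F)`. -/
def h4_conj (P P' : Matrix (Fin 3) (Fin 3) F) (h : P * P' = 1) (h' : P' * P = 1) :
    SpecialLinearGroup (Fin 3) F →* SpecialLinearGroup (Fin 3) F where
  toFun M := ⟨P * (M : Matrix (Fin 3) (Fin 3) F) * P', by
    rw [det_mul, det_mul, mul_right_comm, ← det_mul, h, det_one, one_mul, M.2]⟩
  map_one' := Subtype.ext (by
    show P * (1 : Matrix (Fin 3) (Fin 3) F) * P' = 1
    rw [Matrix.mul_one, h])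
  map_mul' A B := Subtype.ext (by
    show P * ((A : Matrix (Fin 3) (Fin 3) F) * (B : Matrix (Fin 3) (Fin 3) F)) * P' =
      (P * (A : Matrix (Fin 3) (Fin 3) F) * P') * (P * (B : Matrix (Fin 3) (Fin 3) F) * P')
    calc P * ((A : Matrix (Fin 3) (Fin 3) F) * (B : Matrix (Fin 3) (Fin 3) F)) * P'
        = P * (A : Matrix (Fin 3) (Fin 3) F) * (1 : Matrix (Fin 3) (Fin 3) F) *
            (B : Matrix (Fin 3) (Fin 3) F) * P' := by
          rw [Matrix.mul_one]; simp only [Matrix.mul_assoc]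
      _ = (P * (A : Matrix (Fin 3) (Fin 3) F) * P') * (P * (B : Matrix (Fin 3) (Fin 3) F) * P') := by
          rw [← h']; simp only [Matrix.mul_assoc])

theorem h4_conj_coe (P P' : Matrix (Fin 3) (Fin 3) F) (h : P * P' = 1) (h' : P' * P = 1)
    (M : SpecialLinearGroup (Fin 3) F) :
    ((h4_conj P P' h h' M : SpecialLinearGroup (Fin 3) F) : Matrix (Fin 3) (Fin 3) F) =
      P * (M : Matrix (Fin 3) (Fin 3) F) * P' := rfl

theorem h4_conj_conj (P P' : Matrix (Fin 3) (Fin 3) F) (h : P * P' = 1) (h' : P' * P = 1)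
    (M : SpecialLinearGroup (Fin 3) F) : h4_conj P' P h' h (h4_conj P P' h h' M) = M := by
  apply Subtype.ext
  show ((h4_conj P' P h' h (h4_conj P P' h h' M) : SpecialLinearGroup (Fin 3) F) :
    Matrix (Fin 3) (Fin 3) F) = (M : Matrix (Fin 3) (Fin 3) F)
  rw [h4_conj_coe, h4_conj_coe]
  calc P' * (P * (M : Matrix (Fin 3) (Fin 3) F) * P') * P
      = (P' * P) * (M : Matrix (Fin 3) (Fin 3) F) * (P' * P) := by simp only [Matrix.mul_assoc]
    _ = (M : Matrix (Fin 3) (Fin 3) F) := by rw [h', Matrix.one_mul, Matrix.mul_one]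

section finite

variable [Fintype F] {q : ℕ}

/-- `P` turns the antidiagonal form into the standard form. -/
theorem h4_herm_P (hF : Fintype.card F = q ^ 2) {l c : F} (hl : l ^ (q + 1) = -1)
    (hc : c ^ q + c = -1) (x y : Fin 3 → F) :
    hermForm 3 F q (h4_P l c *ᵥ x) (h4_P l c *ᵥ y) = hJ q x y := by
  have hl' : l * l ^ q = -1 := by rw [← pow_succ']; exact hl
  unfold hermForm hJ h4_P
  simp only [Fin.sum_univ_three, Matrix.mulVec, dotProduct, Matrix.of_apply, Matrix.cons_val',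
    Matrix.cons_val_zero, Matrix.cons_val_one, Matrix.cons_val_two, Matrix.empty_val',
    Matrix.cons_val_fin_one, Matrix.head_cons, Matrix.tail_cons, Matrix.head_fin_const]
  simp only [add_pow_q hF, mul_pow, one_pow, zero_mul, add_zero, zero_add, one_mul]
  linear_combination (x 0 * y 0 ^ q + x 0 * y 2 ^ q * c ^ q + x 2 * y 0 ^ q * c +
    x 2 * y 2 ^ q * c * c ^ q) * hl' + (x 2 * y 2 ^ q) * hc

/-- if `P` turns `hJ` into the standard form, conjugation by `P` maps `SUJ` into `SU`. -/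
theorem h4_conj_mem_SU (P P' : Matrix (Fin 3) (Fin 3) F) (h : P * P' = 1) (h' : P' * P = 1)
    (hP : ∀ x y : Fin 3 → F, hermForm 3 F q (P *ᵥ x) (P *ᵥ y) = hJ q x y)
    {M : SpecialLinearGroup (Fin 3) F} (hM : M ∈ SUJ F q) : h4_conj P P' h h' M ∈ Cfsg.SU 3 F q := by
  intro x y
  show hermForm 3 F q ((P * (M : Matrix (Fin 3) (Fin 3) F) * P') *ᵥ x)
    ((P * (M : Matrix (Fin 3) (Fin 3) F) * P') *ᵥ y) = hermForm 3 F q x y
  have e : ∀ z : Fin 3 → F, (P * (M : Matrix (Fin 3) (Fin 3) F) * P') *ᵥ z =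
      P *ᵥ ((M : Matrix (Fin 3) (Fin 3) F) *ᵥ (P' *ᵥ z)) := by
    intro z
    rw [mulVec_mulVec, mulVec_mulVec]
  have e1 : ∀ z : Fin 3 → F, P *ᵥ (P' *ᵥ z) = z := by
    intro z
    rw [mulVec_mulVec, h, one_mulVec]
  rw [e, e, hP, (mem_SUJ M).1 hM, ← hP, e1, e1]

/-- conversely conjugation by `P⁻¹` maps `SU` into `SUJ`. -/
theorem h4_conj_mem_SUJ (P P' : Matrix (Fin 3) (Fin 3) F) (h : P * P' = 1) (h' : P' * P = 1)
    (hP : ∀ x y : Fin 3 → F, hermForm 3 F q (P *ᵥ x) (P *ᵥ y) = hJ q x y)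
    {A : SpecialLinearGroup (Fin 3) F} (hA : A ∈ Cfsg.SU 3 F q) : h4_conj P' P h' h A ∈ SUJ F q := by
  rw [mem_SUJ]
  intro x y
  show hJ q ((P' * (A : Matrix (Fin 3) (Fin 3) F) * P) *ᵥ x)
    ((P' * (A : Matrix (Fin 3) (Fin 3) F) * P) *ᵥ y) = hJ q x y
  have e : ∀ z : Fin 3 → F, P *ᵥ ((P' * (A : Matrix (Fin 3) (Fin 3) F) * P) *ᵥ z) =
      (A : Matrix (Fin 3) (Fin 3) F) *ᵥ (P *ᵥ z) := by
    intro z
    rw [mulVec_mulVec, mulVec_mulVec, ← Matrix.mul_assoc, ← Matrix.mul_assoc, h, Matrix.one_mul]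
  rw [← hP, e, e]
  exact (hA (P *ᵥ x) (P *ᵥ y)).trans (hP x y)

/-- the transport of a unitary transvection is an `hJ`-transvection. -/
theorem h4_conj_transvection (P P' : Matrix (Fin 3) (Fin 3) F) (h : P * P' = 1) (h' : P' * P = 1)
    (hP : ∀ x y : Fin 3 → F, hermForm 3 F q (P *ᵥ x) (P *ᵥ y) = hJ q x y)
    (v : Fin 3 → F) (c : F) :
    P' * unitaryTransvection 3 q v c * P =
      1 + c • vecMulVec (P' *ᵥ v) (fun j => ((P' *ᵥ v) (Fin.rev j)) ^ q) := by
  have e1 : P *ᵥ (P' *ᵥ v) = v := by rw [mulVec_mulVec, h, one_mulVec]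
  rw [Matrix.ext_iff_mulVec]
  intro x
  rw [← mulVec_mulVec, ← mulVec_mulVec, unitaryTransvection_mulVec, mulVec_add, mulVec_mulVec, h',
    one_mulVec, mulVec_smul, add_mulVec, one_mulVec, smul_mulVec, vecMulVec_mulVec]
  congr 1
  have e2 : hermForm 3 F q (P *ᵥ x) v = hJ q x (P' *ᵥ v) := by
    conv_lhs => rw [← e1]
    exact hP x (P' *ᵥ v)
  rw [e2]
  ext i
  simp only [Pi.smul_apply, MulOpposite.smul_eq_mul_unop, MulOpposite.unop_op, smul_eq_mul,
    dotProduct, hJ, Fin.sum_univ_three]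
  have r0 : Fin.rev (0 : Fin 3) = 2 := rfl
  have r1 : Fin.rev (1 : Fin 3) = 1 := rfl
  have r2 : Fin.rev (2 : Fin 3) = 0 := rfl
  rw [r0, r1, r2]
  ring

/-- **TR, first half.** a subgroup of `SL₃(F)` containing every `hJ`-transvection of `SUJ F q`
contains `SUJ F q` (`q ≥ 3`): transport of S0780. -/
theorem tr_transvections (hF : Fintype.card F = q ^ 2) (hq : 3 ≤ q)
    (H : Subgroup (SpecialLinearGroup (Fin 3) F))
    (hT : ∀ M ∈ SUJ F q, (∃ (w : Fin 3 → F) (c : F), hJ q w w = 0 ∧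
      (M : Matrix (Fin 3) (Fin 3) F) = 1 + c • vecMulVec w (fun j => (w (Fin.rev j)) ^ q)) → M ∈ H) :
    SUJ F q ≤ H := by
  obtain ⟨l, hl⟩ := nt_eps (q := q) hF
  obtain ⟨c, hc⟩ := nt_trace (q := q) hF
  have hl0 : l ≠ 0 := by
    rintro rfl
    rw [zero_pow (by omega)] at hl
    exact absurd hl (by norm_num)
  have h := h4_P_mul_P' l c hl0
  have h' := h4_P'_mul_P l c hl0
  have hP := h4_herm_P hF hl hc
  let K : Subgroup (Cfsg.SU 3 F q) :=
    (H.comap (h4_conj (h4_P' l c) (h4_P l c) h' h)).comap (Cfsg.SU 3 F q).subtype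
  have hK : K = ⊤ := by
    rw [eq_top_iff, ← Cfsg.Agent.S0780.result hF 3 le_rfl (by omega), Subgroup.closure_le]
    rintro A ⟨v, d, hv, hA⟩
    show h4_conj (h4_P' l c) (h4_P l c) h' h (A : SpecialLinearGroup (Fin 3) F) ∈ H
    apply hT _ (h4_conj_mem_SUJ (h4_P l c) (h4_P' l c) h h' hP A.2)
    refine ⟨h4_P' l c *ᵥ v, d, ?_, ?_⟩
    · rw [← hP, mulVec_mulVec, h, one_mulVec, hv]
    · rw [h4_conj_coe, hA, h4_conj_transvection (h4_P l c) (h4_P' l c) h h' hP]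
  intro M hM
  have h1 : (⟨h4_conj (h4_P l c) (h4_P' l c) h h' M,
      h4_conj_mem_SU (h4_P l c) (h4_P' l c) h h' hP hM⟩ : Cfsg.SU 3 F q) ∈ K := by
    rw [hK]; trivial
  have h2 : h4_conj (h4_P' l c) (h4_P l c) h' h (h4_conj (h4_P l c) (h4_P' l c) h h' M) ∈ H := h1
  rwa [h4_conj_conj] at h2

omit [Fintype F] in
theorem h4_conj_pow (P P' N : Matrix (Fin 3) (Fin 3) F) (h' : P' * P = 1) (k : ℕ) :
    (P * N * P') ^ (k + 1) = P * N ^ (k + 1) * P' := by
  induction k with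
  | zero => simp
  | succ k ih =>
    rw [pow_succ, ih, pow_succ N (k + 1)]
    calc P * N ^ (k + 1) * P' * (P * N * P') = P * N ^ (k + 1) * (P' * P) * N * P' := by
          simp only [Matrix.mul_assoc]
      _ = P * (N ^ (k + 1) * N) * P' := by
          rw [h', Matrix.mul_one]; simp only [Matrix.mul_assoc]

omit [Fintype F] in
theorem h4_U_sub_one (a b : F) :
    ((U q a b : SpecialLinearGroup (Fin 3) F) : Matrix (Fin 3) (Fin 3) F) - 1 =
      !![0, a, b; 0, 0, -(a ^ q); 0, 0, 0] := by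
  rw [U_coe]
  ext i j
  fin_cases i <;> fin_cases j <;> simp

omit [Fintype F] in
theorem h4_N_sq (a b : F) :
    (!![0, a, b; 0, 0, -(a ^ q); 0, 0, 0] : Matrix (Fin 3) (Fin 3) F) ^ 2 =
      !![0, 0, -(a * a ^ q); 0, 0, 0; 0, 0, 0] := by
  rw [pow_two]
  ext i j
  fin_cases i <;> fin_cases j <;> simp [Matrix.mul_apply, Fin.sum_univ_three]

omit [Fintype F] in
theorem h4_N_cube (a b : F) :
    (!![0, a, b; 0, 0, -(a ^ q); 0, 0, 0] : Matrix (Fin 3) (Fin 3) F) ^ 3 = 0 := by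
  rw [pow_succ, h4_N_sq]
  ext i j
  fin_cases i <;> fin_cases j <;> simp [Matrix.mul_apply, Fin.sum_univ_three]

/-- **TR, second half.** the goal in the antidiagonal model gives the conclusion of S2283. -/
theorem tr_goal (hF : Fintype.card F = q ^ 2) (hq : 3 ≤ q) (h : JGoal F q) :
    ∃ u g : ↥(Cfsg.SU 3 F q), (IsNilpotent (((u : Matrix.SpecialLinearGroup (Fin 3) F) : Matrix (Fin 3) (Fin 3) F) - 1) ∧ (((u : Matrix.SpecialLinearGroup (Fin 3) F) : Matrix (Fin 3) (Fin 3) F) - 1) ^ (3 - 1) ≠ 0) ∧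
      Subgroup.closure ({u, g * u * g⁻¹} : Set ↥(Cfsg.SU 3 F q)) = ⊤ := by
  obtain ⟨u, g, hu, hg, ⟨a, b, ha, rfl⟩, hcl⟩ := h
  obtain ⟨l, hl⟩ := nt_eps (q := q) hF
  obtain ⟨c, hc⟩ := nt_trace (q := q) hF
  have hl0 : l ≠ 0 := by
    rintro rfl
    rw [zero_pow (by omega)] at hl
    exact absurd hl (by norm_num)
  have hPP' := h4_P_mul_P' l c hl0
  have hP'P := h4_P'_mul_P l c hl0
  have hP := h4_herm_P hF hl hc
  set φ := h4_conj (h4_P l c) (h4_P' l c) hPP' hP'P with hφ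
  have hφSU : ∀ {M : SpecialLinearGroup (Fin 3) F}, M ∈ SUJ F q → φ M ∈ Cfsg.SU 3 F q :=
    fun hM => h4_conj_mem_SU (h4_P l c) (h4_P' l c) hPP' hP'P hP hM
  have hcoe : ((φ (U q a b) : SpecialLinearGroup (Fin 3) F) : Matrix (Fin 3) (Fin 3) F) - 1 =
      h4_P l c * !![0, a, b; 0, 0, -(a ^ q); 0, 0, 0] * h4_P' l c := by
    rw [hφ, h4_conj_coe, ← h4_U_sub_one, Matrix.mul_sub, Matrix.sub_mul, Matrix.mul_one, hPP']
  refine ⟨⟨φ (U q a b), hφSU hu⟩, ⟨φ g, hφSU hg⟩, ⟨?_, ?_⟩, ?_⟩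
  · refine ⟨3, ?_⟩
    show (((φ (U q a b) : SpecialLinearGroup (Fin 3) F) : Matrix (Fin 3) (Fin 3) F) - 1) ^ 3 = 0
    rw [hcoe, h4_conj_pow _ _ _ hP'P 2, h4_N_cube, Matrix.mul_zero, Matrix.zero_mul]
  · show (((φ (U q a b) : SpecialLinearGroup (Fin 3) F) : Matrix (Fin 3) (Fin 3) F) - 1) ^ (3 - 1) ≠ 0
    rw [hcoe]
    show (h4_P l c * !![0, a, b; 0, 0, -(a ^ q); 0, 0, 0] * h4_P' l c) ^ (1 + 1) ≠ 0
    rw [h4_conj_pow _ _ _ hP'P 1, h4_N_sq]
    intro h0
    have h1 : h4_P' l c * (h4_P l c * !![0, 0, -(a * a ^ q); 0, 0, 0; 0, 0, 0] * h4_P' l c) * h4_P l c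
        = 0 := by rw [h0, Matrix.mul_zero, Matrix.zero_mul]
    have h2 : h4_P' l c * (h4_P l c * !![0, 0, -(a * a ^ q); 0, 0, 0; 0, 0, 0] * h4_P' l c) * h4_P l c
        = !![0, 0, -(a * a ^ q); 0, 0, 0; 0, 0, 0] := by
      calc h4_P' l c * (h4_P l c * !![0, 0, -(a * a ^ q); 0, 0, 0; 0, 0, 0] * h4_P' l c) * h4_P l c
          = (h4_P' l c * h4_P l c) * !![0, 0, -(a * a ^ q); 0, 0, 0; 0, 0, 0] *
              (h4_P' l c * h4_P l c) := by simp only [Matrix.mul_assoc]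
        _ = _ := by rw [hP'P, Matrix.one_mul, Matrix.mul_one]
    rw [h2] at h1
    have h3 := congrFun (congrFun h1 0) 2
    simp at h3
    rcases h3 with h3 | h3
    · exact ha h3
    · exact ha h3.1
  · set T := Subgroup.closure ({(⟨φ (U q a b), hφSU hu⟩ : Cfsg.SU 3 F q),
      (⟨φ g, hφSU hg⟩ : Cfsg.SU 3 F q) * ⟨φ (U q a b), hφSU hu⟩ * (⟨φ g, hφSU hg⟩ : Cfsg.SU 3 F q)⁻¹} :
        Set ↥(Cfsg.SU 3 F q)) with hT
    have key : ∀ M ∈ Subgroup.closure ({U q a b, g * U q a b * g⁻¹} :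
        Set (SpecialLinearGroup (Fin 3) F)), ∀ hM : φ M ∈ Cfsg.SU 3 F q,
          (⟨φ M, hM⟩ : Cfsg.SU 3 F q) ∈ T := by
      intro M hM
      induction hM using Subgroup.closure_induction with
      | mem x hx =>
        intro hM
        rcases hx with rfl | rfl
        · exact Subgroup.subset_closure (Set.mem_insert _ _)
        · have e : (⟨φ (g * U q a b * g⁻¹), hM⟩ : Cfsg.SU 3 F q) =
              (⟨φ g, hφSU hg⟩ : Cfsg.SU 3 F q) * ⟨φ (U q a b), hφSU hu⟩ *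
                (⟨φ g, hφSU hg⟩ : Cfsg.SU 3 F q)⁻¹ := by
            apply Subtype.ext
            show φ (g * U q a b * g⁻¹) = φ g * φ (U q a b) * (φ g)⁻¹
            rw [map_mul, map_mul, map_inv]
          rw [e]
          exact Subgroup.subset_closure (Set.mem_insert_of_mem _ rfl)
      | one =>
        intro hM
        have e : (⟨φ 1, hM⟩ : Cfsg.SU 3 F q) = 1 := Subtype.ext (map_one φ)
        rw [e]
        exact one_mem _
      | mul x y hx hy ihx ihy =>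
        intro hM
        have hx' : φ x ∈ Cfsg.SU 3 F q := hφSU (by rw [← hcl]; exact hx)
        have hy' : φ y ∈ Cfsg.SU 3 F q := hφSU (by rw [← hcl]; exact hy)
        have e : (⟨φ (x * y), hM⟩ : Cfsg.SU 3 F q) = ⟨φ x, hx'⟩ * ⟨φ y, hy'⟩ :=
          Subtype.ext (map_mul φ x y)
        rw [e]
        exact mul_mem (ihx hx') (ihy hy')
      | inv x hx ihx =>
        intro hM
        have hx' : φ x ∈ Cfsg.SU 3 F q := hφSU (by rw [← hcl]; exact hx)
        have e : (⟨φ x⁻¹, hM⟩ : Cfsg.SU 3 F q) = (⟨φ x, hx'⟩ : Cfsg.SU 3 F q)⁻¹ :=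
          Subtype.ext (map_inv φ x)
        rw [e]
        exact inv_mem (ihx hx')
    rw [eq_top_iff]
    intro x _
    have hxJ : h4_conj (h4_P' l c) (h4_P l c) hP'P hPP' (x : SpecialLinearGroup (Fin 3) F) ∈ SUJ F q :=
      h4_conj_mem_SUJ (h4_P l c) (h4_P' l c) hPP' hP'P hP x.2
    have hxx : φ (h4_conj (h4_P' l c) (h4_P l c) hP'P hPP' (x : SpecialLinearGroup (Fin 3) F)) =
        (x : SpecialLinearGroup (Fin 3) F) := h4_conj_conj _ _ hP'P hPP' _
    have := key _ (by rw [hcl]; exact hxJ) (by rw [hxx]; exact x.2)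
    have e : (⟨φ (h4_conj (h4_P' l c) (h4_P l c) hP'P hPP' (x : SpecialLinearGroup (Fin 3) F)),
        by rw [hxx]; exact x.2⟩ : Cfsg.SU 3 F q) = x := Subtype.ext hxx
    rw [e] at this
    exact this

end finite

end Cfsg.Agent.SU3G
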