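import Cfsg.Agent.SU3G.Base
import Cfsg.Agent.SU3G.H5_MOD

/-!
# S2283 swarm, piece GEN/G2 (helper8): conjugating `J`-transvections

`h8_T q w c = 1 + c • vecMulVec w w~` with `w~ j = (w (rev j)) ^ q` (the shape in `tr_transvections`).
For `k ∈ SUJ F q`: `k * T(w,c) * k⁻¹ = T(k w, c)`, and `T(lam • e₁, c) = U q 0 (c * lam^(q+1))`.
-/

set_option autoImplicit false

namespace Cfsg.Agent.SU3G

open Matrix Cfsg

variable {F : Type*} [Field F] {q : ℕ}

/-- the twisted reversal `w~ j = (w (rev j)) ^ q` -/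
def h8_tw (q : ℕ) (w : Fin 3 → F) : Fin 3 → F := fun j => (w (Fin.rev j)) ^ q

/-- the `J`-transvection shape of `tr_transvections` -/
def h8_T (q : ℕ) (w : Fin 3 → F) (c : F) : Matrix (Fin 3) (Fin 3) F :=
  1 + c • vecMulVec w (fun j => (w (Fin.rev j)) ^ q)

theorem h8_T_def (q : ℕ) (w : Fin 3 → F) (c : F) :
    h8_T q w c = 1 + c • vecMulVec w (fun j => (w (Fin.rev j)) ^ q) := rfl

theorem h8_T_def' (q : ℕ) (w : Fin 3 → F) (c : F) :
    h8_T q w c = 1 + c • vecMulVec w (h8_tw q w) := rfl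

theorem h8_hJ_eq (q : ℕ) (x y : Fin 3 → F) : hJ q x y = x ⬝ᵥ h8_tw q y := by
  simp [hJ, h8_tw, dotProduct, Fin.sum_univ_three, Fin.rev]

/-- the isometry condition, read on the columns of `k` -/
theorem h8_tw_vecMul (k : SpecialLinearGroup (Fin 3) F) (hk : k ∈ SUJ F q) (w : Fin 3 → F) :
    h8_tw q (k.1 *ᵥ w) ᵥ* k.1 = h8_tw q w := by
  funext m
  have h := (mem_SUJ k).1 hk (Pi.single m 1) w
  rw [h8_hJ_eq, h8_hJ_eq, single_one_dotProduct, mulVec_single_one] at h
  rw [← h]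
  simp [vecMul, dotProduct, Matrix.col_apply, mul_comm]

theorem h8_tw_vecMul_inv (k : SpecialLinearGroup (Fin 3) F) (hk : k ∈ SUJ F q) (w : Fin 3 → F) :
    h8_tw q w ᵥ* (k⁻¹ : SpecialLinearGroup (Fin 3) F).1 = h8_tw q (k.1 *ᵥ w) := by
  have h1 : k.1 * (k⁻¹ : SpecialLinearGroup (Fin 3) F).1 = 1 := by
    rw [← Matrix.SpecialLinearGroup.coe_mul, mul_inv_cancel]; rfl
  rw [← h8_tw_vecMul k hk w, vecMul_vecMul, h1, vecMul_one]

/-- **G2**: conjugating a `J`-transvection by an isometry. -/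
theorem h8_T_conj (k : SpecialLinearGroup (Fin 3) F) (hk : k ∈ SUJ F q) (w : Fin 3 → F) (c : F) :
    k.1 * h8_T q w c * (k⁻¹ : SpecialLinearGroup (Fin 3) F).1 = h8_T q (k.1 *ᵥ w) c := by
  have h1 : k.1 * (k⁻¹ : SpecialLinearGroup (Fin 3) F).1 = 1 := by
    rw [← Matrix.SpecialLinearGroup.coe_mul, mul_inv_cancel]; rfl
  rw [h8_T_def', h8_T_def', mul_add, add_mul, mul_one, h1, Matrix.mul_smul, Matrix.smul_mul,
    mul_vecMulVec, vecMulVec_mul, h8_tw_vecMul_inv k hk]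

/-- `T(lam • e₁, c) = U(0, c * lam^(q+1))` -/
theorem h8_T_single (hq : q ≠ 0) (lam c : F) :
    h8_T q (Pi.single (0 : Fin 3) lam) c = (U q (0 : F) (c * lam ^ (q + 1))).1 := by
  ext i j
  fin_cases i <;> fin_cases j <;>
    simp [h8_T, U, vecMulVec_apply, Fin.rev, zero_pow hq, pow_succ, mul_comm]

/-- the transvection shape with zero vector is the identity -/
theorem h8_T_zero (hq : q ≠ 0) (c : F) : h8_T q (0 : Fin 3 → F) c = 1 := by
  ext i j
  simp [h8_T, zero_pow hq]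

section fin

variable [Fintype F]

/-- converse of `h9_U_mem`: an element `U q a b` of `SUJ` satisfies the norm-trace relation -/
theorem h8_U_rel_of_mem (hF : Fintype.card F = q ^ 2) (a b : F) (h : U q a b ∈ SUJ F q) :
    b + b ^ q + a * a ^ q = 0 := by
  have hq : q ≠ 0 := by
    have := Cfsg.Agent.Helper7.Herm.one_le_q hF
    omega
  have h1 := (mem_SUJ _).1 h (Pi.single 2 1) (Pi.single 2 1)
  simp only [U_coe, mulVec_single_one] at h1
  simp [hJ, Matrix.col_apply, zero_pow hq, h5_neg_pow_q hF,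
    Cfsg.Agent.Helper7.Herm.pow_q_pow_q hF] at h1
  linear_combination h1

/-- **G2** in the shape requested by the `gen_top` assembly (helper1, msg 4437). -/
theorem gen_conj (hF : Fintype.card F = q ^ 2) (k : SpecialLinearGroup (Fin 3) F) (hk : k ∈ SUJ F q)
    (w : Fin 3 → F) (c : F) :
    k.1 * (1 + c • vecMulVec w (fun j => (w (Fin.rev j)) ^ q)) * (k⁻¹ : SpecialLinearGroup (Fin 3) F).1 =
      1 + c • vecMulVec (k.1 *ᵥ w) (fun j => ((k.1 *ᵥ w) (Fin.rev j)) ^ q) := by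
  have _h := hF
  exact h8_T_conj k hk w c

/-- `T(lam • e₁, c) = U(0, c * lam^(q+1))` in the shape requested by the assembly. -/
theorem gen_T_e1 (hF : Fintype.card F = q ^ 2) (lam c : F) :
    1 + c • vecMulVec (lam • ![(1 : F), 0, 0]) (fun j => ((lam • ![(1 : F), 0, 0]) (Fin.rev j)) ^ q) =
      (U q (0 : F) (c * lam ^ (q + 1))).1 := by
  have hq : q ≠ 0 := by
    have := Cfsg.Agent.Helper7.Herm.one_le_q hF
    omega
  have hv : lam • ![(1 : F), 0, 0] = Pi.single (0 : Fin 3) lam := by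
    funext i
    fin_cases i <;> simp
  rw [hv]
  exact h8_T_single hq lam c

end fin

end Cfsg.Agent.SU3G
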