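import Mathlib
import Cfsg.Agent.SU3G.Base
import Cfsg.Agent.SU3G.H1_NTIface
import Cfsg.Agent.SU3G.H5_MOD
import Cfsg.Agent.SU3G.H1_Trace
import Cfsg.Agent.SU3G.H8_GenConj
import Cfsg.Agent.SU3G.H4_TR

set_option autoImplicit false
set_option linter.unusedSimpArgs false

/-!
Piece GEN (part G3 and the assembly `gen_top`) of the S2283 swarm.
-/

namespace Cfsg.Agent.SU3G

open Matrix Cfsg

variable {F : Type*} [Field F]

theorem h1g_mulVec3 (M : Matrix (Fin 3) (Fin 3) F) (x : Fin 3 → F) :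
    M *ᵥ x = ![M 0 0 * x 0 + M 0 1 * x 1 + M 0 2 * x 2,
               M 1 0 * x 0 + M 1 1 * x 1 + M 1 2 * x 2,
               M 2 0 * x 0 + M 2 1 * x 1 + M 2 2 * x 2] := by
  ext i
  fin_cases i <;> simp [Matrix.mulVec, dotProduct, Fin.sum_univ_three]

theorem h1g_hJ_apply (q : ℕ) (x y : Fin 3 → F) :
    hJ q x y = x 0 * (y 2) ^ q + x 1 * (y 1) ^ q + x 2 * (y 0) ^ q := rfl

/-- `U(a,b) e₃ = (b, -ā, 1)` -/
theorem h1g_U_e3 (q : ℕ) (a b : F) :
    (U q a b).1 *ᵥ ![0, 0, 1] = ![b, -(a ^ q), 1] := by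
  rw [h1g_mulVec3]
  ext i
  fin_cases i <;> simp [U]

/-- the transvection attached to a multiple of `e₁` is a central element of `Q` -/
theorem h1g_T_e1 {q : ℕ} (hq : q ≠ 0) (lam c : F) :
    h8_T q (lam • ![1, 0, 0]) c = (U q 0 (c * lam ^ (q + 1))).1 := by
  have hw : (lam • ![1, 0, 0] : Fin 3 → F) = ![lam, 0, 0] := by
    ext i
    fin_cases i <;> simp
  rw [hw]
  have hU : (U q 0 (c * lam ^ (q + 1))).1 = !![1, 0, c * lam ^ (q + 1); 0, 1, 0; 0, 0, 1] := by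
    show !![1, 0, c * lam ^ (q + 1); 0, 1, -((0 : F) ^ q); 0, 0, 1] = _
    rw [zero_pow hq, neg_zero]
  rw [hU]
  ext i j
  fin_cases i <;> fin_cases j
  · simp [h8_T, vecMulVec, Fin.rev, hq]
  · simp [h8_T, vecMulVec, Fin.rev, hq]
  · simp [h8_T, vecMulVec, Fin.rev, -mul_eq_mul_left_iff]
    ring
  · simp [h8_T, vecMulVec, Fin.rev, hq]
  · simp [h8_T, vecMulVec, Fin.rev, hq]
  · simp [h8_T, vecMulVec, Fin.rev, hq]
  · simp [h8_T, vecMulVec, Fin.rev, hq]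
  · simp [h8_T, vecMulVec, Fin.rev, hq]
  · simp [h8_T, vecMulVec, Fin.rev, hq]

variable [Fintype F] {q : ℕ}

theorem h1g_q_ne (hF : Fintype.card F = q ^ 2) : q ≠ 0 := by
  have := h1_su_two_le hF
  omega

/-- **G3a**: converse of `U_mem` -/
theorem h1g_U_cond (hF : Fintype.card F = q ^ 2) (a b : F) (h : U q a b ∈ SUJ F q) :
    b + b ^ q + a * a ^ q = 0 := by
  rw [mem_SUJ] at h
  have h1 := h ![0, 0, 1] ![0, 0, 1]
  rw [h1g_U_e3, h1g_hJ_apply, h1g_hJ_apply] at h1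
  simp only [Matrix.cons_val_zero, Matrix.cons_val_one, Matrix.cons_val_two, Matrix.head_cons,
    Matrix.tail_cons] at h1
  rw [h1_su_neg_pow q hF, h1_su_frob q hF, one_pow, zero_pow (h1g_q_ne hF)] at h1
  linear_combination h1

omit [Fintype F] in
/-- **G3b** -/
theorem h1g_iso_e1 (hq : q ≠ 0) (w : Fin 3 → F) (hw : hJ q w w = 0) (h2 : w 2 = 0) : w 1 = 0 := by
  rw [h1g_hJ_apply, h2, zero_pow hq] at hw
  have h : w 1 * w 1 ^ q = 0 := by linear_combination hw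
  rcases mul_eq_zero.1 h with h | h
  · exact h
  · exact (pow_eq_zero_iff hq).1 h

/-- **G3c** -/
theorem h1g_iso_U (hF : Fintype.card F = q ^ 2) (w : Fin 3 → F) (hw : hJ q w w = 0)
    (h2 : w 2 ≠ 0) :
    ∃ a b : F, b + b ^ q + a * a ^ q = 0 ∧ w = (w 2) • ((U q a b).1 *ᵥ ![0, 0, 1]) := by
  refine ⟨-((w 1 / w 2) ^ q), w 0 / w 2, ?_, ?_⟩
  · rw [h1g_hJ_apply] at hw
    have hne : (w 2) ^ q ≠ 0 := pow_ne_zero _ h2
    rw [h1_su_neg_pow q hF, h1_su_frob q hF, div_pow, div_pow]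
    field_simp
    linear_combination hw
  · rw [h1g_U_e3, h1_su_neg_pow q hF, h1_su_frob q hF]
    ext i
    fin_cases i
    · simp; field_simp
    · simp; field_simp
    · simp

/-- **G3d** -/
theorem h1g_col_iso (hF : Fintype.card F = q ^ 2) (h : SpecialLinearGroup (Fin 3) F)
    (hh : h ∈ SUJ F q) : hJ q (h.1 *ᵥ ![1, 0, 0]) (h.1 *ᵥ ![1, 0, 0]) = 0 := by
  rw [mem_SUJ] at hh
  rw [hh, h1g_hJ_apply]
  simp [zero_pow (h1g_q_ne hF)]

omit [Fintype F] in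
theorem h1g_col_2 (h : SpecialLinearGroup (Fin 3) F) :
    (h.1 *ᵥ ![1, 0, 0]) 2 = h.1 2 0 := by
  rw [h1g_mulVec3]
  simp

/-- **G1**: once `Aset = F`, the whole unipotent radical `Q` lies in `H` -/
theorem h1g_Q (hF : Fintype.card F = q ^ 2) (H : Subgroup (SpecialLinearGroup (Fin 3) F))
    (hH : H ≤ SUJ F q) (hA : ∀ a : F, a ∈ Aset q H) :
    ∀ a b : F, b + b ^ q + a * a ^ q = 0 → U q a b ∈ H := by
  have hq2 := h1_su_two_le hF
  have hZ : ∀ c : F, c + c ^ q = 0 → U q 0 c ∈ H := by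
    intro c hc
    obtain ⟨a1, ha1⟩ := h1_su_hilbert90 q hF hq2 c hc
    obtain ⟨b1, hb1⟩ := hA a1
    obtain ⟨b2, hb2⟩ := hA 1
    have hcomm : U q a1 b1 * U q 1 b2 * (U q a1 b1)⁻¹ * (U q 1 b2)⁻¹ = U q 0 c := by
      rw [h5_U_inv hF, h5_U_inv hF, h5_U_mul hF, h5_U_mul hF, h5_U_mul hF]
      have e1 : a1 + 1 + -a1 + -1 = 0 := by ring
      have e2 : b1 + b2 - a1 * 1 ^ q + (-b1 - a1 * a1 ^ q) - (a1 + 1) * (-a1) ^ q
          + (-b2 - 1 * 1 ^ q) - (a1 + 1 + -a1) * (-1) ^ q = c := by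
        rw [h1_su_neg_pow q hF, h1_su_neg_pow q hF, one_pow]
        linear_combination ha1
      rw [e1, e2]
    rw [← hcomm]
    exact mul_mem (mul_mem (mul_mem hb1 hb2) (inv_mem hb1)) (inv_mem hb2)
  intro a b hab
  obtain ⟨b'', hb''⟩ := hA a
  have hcond := h1g_U_cond hF a b'' (hH hb'')
  have hsplit : U q a b = U q a b'' * U q 0 (b - b'') := by
    rw [h5_U_mul hF, zero_pow (h1g_q_ne hF)]
    have e1 : a + 0 = a := by ring
    have e2 : b'' + (b - b'') - a * 0 = b := by ring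
    rw [e1, e2]
  rw [hsplit]
  refine mul_mem hb'' (hZ _ ?_)
  rw [h1_su_sub_pow q hF]
  linear_combination hab - hcond

/-- **GEN** -/
theorem gen_top (hF : Fintype.card F = q ^ 2) (hq : 3 ≤ q)
    (H : Subgroup (SpecialLinearGroup (Fin 3) F)) (hH : H ≤ SUJ F q)
    (hA : ∀ a : F, a ∈ Aset q H)
    (hmove : ∃ h ∈ H, (h : Matrix (Fin 3) (Fin 3) F) 2 0 ≠ 0) : H = SUJ F q := by
  apply le_antisymm hH
  apply tr_transvections hF hq H
  rintro M hM ⟨w, c, hw, hMat⟩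
  have hQ := h1g_Q hF H hH hA
  have hq0 : q ≠ 0 := by omega
  have hMat' : (M : Matrix (Fin 3) (Fin 3) F) = h8_T q w c := hMat
  by_cases hw2 : w 2 = 0
  · have hw1 := h1g_iso_e1 hq0 w hw hw2
    have hwe : w = (w 0) • ![1, 0, 0] := by
      ext i
      fin_cases i <;> simp [hw1, hw2]
    have hMU : M = U q 0 (c * (w 0) ^ (q + 1)) := by
      apply Subtype.ext
      rw [hMat', hwe, h1g_T_e1 hq0]
      simp
    rw [hMU] at hM ⊢
    exact hQ _ _ (h1g_U_cond hF _ _ hM)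
  · obtain ⟨h, hhH, hh20⟩ := hmove
    have hhS := hH hhH
    obtain ⟨a, b, hab, hwU⟩ := h1g_iso_U hF w hw hw2
    have hcol2 : (h.1 *ᵥ ![1, 0, 0]) 2 ≠ 0 := by rw [h1g_col_2]; exact hh20
    obtain ⟨a', b', hab', hhU⟩ := h1g_iso_U hF (h.1 *ᵥ ![1, 0, 0]) (h1g_col_iso hF h hhS) hcol2
    rw [h1g_col_2] at hhU
    obtain ⟨k, hkdef⟩ : ∃ k : SpecialLinearGroup (Fin 3) F, k = U q a b * (U q a' b')⁻¹ * h :=
      ⟨_, rfl⟩
    have hkH : k ∈ H := by
      rw [hkdef]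
      exact mul_mem (mul_mem (hQ a b hab) (inv_mem (hQ a' b' hab'))) hhH
    have hkS := hH hkH
    have hke : k.1 *ᵥ ![1, 0, 0] = (h.1 2 0) • ((U q a b).1 *ᵥ ![0, 0, 1]) := by
      have h1 : k.1 = (U q a b).1 * ((U q a' b')⁻¹).1 * h.1 := by
        rw [hkdef]; rfl
      have h2 : ((U q a' b')⁻¹).1 * (U q a' b').1 = 1 := by
        have : ((U q a' b')⁻¹ * U q a' b').1 = 1 := by rw [inv_mul_cancel]; rfl
        exact this
      rw [h1, ← Matrix.mulVec_mulVec, ← Matrix.mulVec_mulVec, hhU, Matrix.mulVec_smul,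
        Matrix.mulVec_smul, Matrix.mulVec_mulVec ![0, 0, 1] ((U q a' b')⁻¹).1, h2,
        Matrix.one_mulVec]
    have hwk : w = k.1 *ᵥ ((w 2 / h.1 2 0) • ![1, 0, 0]) := by
      rw [Matrix.mulVec_smul, hke, smul_smul, div_mul_cancel₀ _ hh20]
      exact hwU
    have hconj := h8_T_conj k hkS ((w 2 / h.1 2 0) • ![1, 0, 0]) c
    rw [← hwk, h1g_T_e1 hq0] at hconj
    obtain ⟨c', hc'⟩ : ∃ c' : F, c' = c * (w 2 / h.1 2 0) ^ (q + 1) := ⟨_, rfl⟩
    rw [← hc'] at hconj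
    have hM' : M = k * U q 0 c' * k⁻¹ := by
      apply Subtype.ext
      rw [hMat', ← hconj]
      rfl
    have hU0S : U q 0 c' ∈ SUJ F q := by
      have : U q 0 c' = k⁻¹ * M * k := by rw [hM']; group
      rw [this]
      exact mul_mem (mul_mem (inv_mem hkS) hM) hkS
    rw [hM']
    exact mul_mem (mul_mem hkH (hQ _ _ (h1g_U_cond hF _ _ hU0S))) (inv_mem hkH)

end Cfsg.Agent.SU3G
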