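import Mathlib
import Cfsg.Agent.SU3G.Base
import Cfsg.Agent.SU3G.H1_NTIface
import Cfsg.Agent.SL3G.Base
import Cfsg.Agent.SU3G.H5_MOD
import Cfsg.Agent.SU3G.H1_GEN3

set_option autoImplicit false

/-!
Piece Q8 of the S2283 swarm: `JGoal F 8` for a field `F` with `64` elements.

`ζ ∈ F` of order `9` (`ζ ^ 6 = ζ ^ 3 + 1`), `u = U(a,b)` with `a = 1 + ζ^5`, `b = 1 + ζ + ζ^2`,
`g = n0` the antidiagonal monomial matrix, `v = n0 u n0⁻¹`, and the word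
`W = v⁻¹ u v⁻¹ u⁻¹ v u v`, which is upper triangular with `W₀₀ / W₁₁ = ζ + ζ^2 + ζ^4 + ζ^5`
generating `F`.  All matrix identities are checked by `linear_combination` with machine generated
certificates modulo `ζ^6 - ζ^3 - 1` and `2`.
-/

namespace Cfsg.Agent.SU3G

open Matrix Cfsg

section general

variable {F : Type*} [Field F]

/-- entrywise equality of `3 × 3` matrix literals -/
theorem h1_mat3_ext {α : Type*} {a11 a12 a13 a21 a22 a23 a31 a32 a33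
    b11 b12 b13 b21 b22 b23 b31 b32 b33 : α}
    (h11 : a11 = b11) (h12 : a12 = b12) (h13 : a13 = b13)
    (h21 : a21 = b21) (h22 : a22 = b22) (h23 : a23 = b23)
    (h31 : a31 = b31) (h32 : a32 = b32) (h33 : a33 = b33) :
    (!![a11, a12, a13; a21, a22, a23; a31, a32, a33] : Matrix (Fin 3) (Fin 3) α) =
      !![b11, b12, b13; b21, b22, b23; b31, b32, b33] := by
  subst h11 h12 h13 h21 h22 h23 h31 h32 h33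
  rfl

/-- product of `3 × 3` matrix literals, entry by entry -/
theorem h1_mul3 {α : Type*} [CommRing α] {a11 a12 a13 a21 a22 a23 a31 a32 a33
    b11 b12 b13 b21 b22 b23 b31 b32 b33 c11 c12 c13 c21 c22 c23 c31 c32 c33 : α}
    (h11 : a11 * b11 + a12 * b21 + a13 * b31 = c11)
    (h12 : a11 * b12 + a12 * b22 + a13 * b32 = c12)
    (h13 : a11 * b13 + a12 * b23 + a13 * b33 = c13)
    (h21 : a21 * b11 + a22 * b21 + a23 * b31 = c21)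
    (h22 : a21 * b12 + a22 * b22 + a23 * b32 = c22)
    (h23 : a21 * b13 + a22 * b23 + a23 * b33 = c23)
    (h31 : a31 * b11 + a32 * b21 + a33 * b31 = c31)
    (h32 : a31 * b12 + a32 * b22 + a33 * b32 = c32)
    (h33 : a31 * b13 + a32 * b23 + a33 * b33 = c33) :
    (!![a11, a12, a13; a21, a22, a23; a31, a32, a33] : Matrix (Fin 3) (Fin 3) α) *
      !![b11, b12, b13; b21, b22, b23; b31, b32, b33] =
      !![c11, c12, c13; c21, c22, c23; c31, c32, c33] := by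
  rw [Matrix.mul_fin_three]
  exact h1_mat3_ext h11 h12 h13 h21 h22 h23 h31 h32 h33

variable [Fintype F] {q : ℕ}

/-- `U(a,b)` is an isometry of `hJ` as soon as `b + b̄ + a ā = 0` -/
theorem h1_U_mem (hF : Fintype.card F = q ^ 2) (a b : F) (h : b + b ^ q + a * a ^ q = 0) :
    U q a b ∈ SUJ F q := by
  rw [mem_SUJ]
  intro x y
  have hv : ∀ z : Fin 3 → F, (U q a b).1 *ᵥ z =
      ![z 0 + a * z 1 + b * z 2, z 1 + -(a ^ q) * z 2, z 2] := by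
    intro z
    ext i
    fin_cases i <;> simp [U, Matrix.mulVec, dotProduct, Fin.sum_univ_three]
  rw [hv x, hv y]
  simp only [hJ, Matrix.cons_val_zero, Matrix.cons_val_one, Matrix.cons_val_two, Matrix.head_cons,
    Matrix.tail_cons]
  simp only [h1_su_add_pow q hF, mul_pow, h1_su_neg_pow q hF, h1_su_frob q hF]
  linear_combination (x 2 * (y 2) ^ q) * h

/-- the antidiagonal monomial element `n0` -/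
def h1_n0 (F : Type*) [Field F] : SpecialLinearGroup (Fin 3) F :=
  ⟨!![0, 0, 1; 0, -1, 0; 1, 0, 0], by simp [det_fin_three]⟩

omit [Fintype F] in
theorem h1_n0_coe :
    ((h1_n0 F : SpecialLinearGroup (Fin 3) F) : Matrix (Fin 3) (Fin 3) F) =
      !![0, 0, 1; 0, -1, 0; 1, 0, 0] := rfl

theorem h1_n0_mem (hF : Fintype.card F = q ^ 2) : h1_n0 F ∈ SUJ F q := by
  rw [mem_SUJ]
  intro x y
  have hv : ∀ z : Fin 3 → F, (h1_n0 F).1 *ᵥ z = ![z 2, -(z 1), z 0] := by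
    intro z
    ext i
    fin_cases i <;> simp [h1_n0, Matrix.mulVec, dotProduct, Fin.sum_univ_three]
  rw [hv x, hv y]
  simp only [hJ, Matrix.cons_val_zero, Matrix.cons_val_one, Matrix.cons_val_two, Matrix.head_cons,
    Matrix.tail_cons]
  simp only [h1_su_neg_pow q hF]
  ring

omit [Fintype F] in
theorem h1_n0_inv : (h1_n0 F)⁻¹ = h1_n0 F := by
  apply inv_eq_of_mul_eq_one_right
  apply Subtype.ext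
  rw [Matrix.SpecialLinearGroup.coe_mul, h1_n0_coe, Matrix.SpecialLinearGroup.coe_one,
    Matrix.one_fin_three]
  refine h1_mul3 ?_ ?_ ?_ ?_ ?_ ?_ ?_ ?_ ?_ <;> ring

/-- in a field with `64` elements a subfield-generator criterion -/
theorem h1_closure_top_64 (hF : Fintype.card F = 64) (s : F) (h4 : s ^ 4 ≠ s) (h8 : s ^ 8 ≠ s) :
    Subfield.closure ({s} : Set F) = ⊤ := by
  by_contra hK
  obtain ⟨K, hKdef⟩ : ∃ K : Subfield F, K = Subfield.closure ({s} : Set F) := ⟨_, rfl⟩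
  rw [← hKdef] at hK
  obtain ⟨d, hd2, hsd⟩ := h1_su_card_subfield K hK
  rw [Nat.card_eq_fintype_card (α := F), hF] at hsd
  have hmem : s ∈ K := by
    rw [hKdef]; exact Subfield.subset_closure (Set.mem_singleton _)
  have hpow := Cfsg.Agent.SL3G.h1_pow_card K s hmem
  have hk2 : 2 ≤ Nat.card K := Finite.one_lt_card
  obtain ⟨k, hkdef⟩ : ∃ k, k = Nat.card K := ⟨_, rfl⟩
  rw [← hkdef] at hpow hk2 hsd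
  have hdvd : k ∣ 64 := by rw [← hsd]; exact dvd_pow_self k (by omega)
  have hk8 : k ≤ 8 := by
    by_contra hgt
    push Not at hgt
    have h1 : k ^ 2 ≤ k ^ d := Nat.pow_le_pow_right (by omega) hd2
    have h2 : 9 ^ 2 ≤ k ^ 2 := Nat.pow_le_pow_left (by omega) 2
    omega
  interval_cases k
  · apply h4
    calc s ^ 4 = (s ^ 2) ^ 2 := by ring
      _ = s := by rw [hpow, hpow]
  · omega
  · exact h4 hpow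
  · omega
  · omega
  · omega
  · exact h8 hpow

/-- a field with `64` elements has characteristic `2` -/
theorem h1_two_eq_zero_64 (hF : Fintype.card F = 64) : (2 : F) = 0 := by
  obtain ⟨p, hp⟩ := CharP.exists F
  have := hp
  obtain ⟨m, hpp, hqm⟩ := FiniteField.card F p
  rw [hF] at hqm
  have h2q : 2 ∣ p ^ (m : ℕ) := by rw [← hqm]; norm_num
  have h2p : 2 ∣ p := Nat.Prime.dvd_of_dvd_pow Nat.prime_two h2q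
  have hp2 : p = 2 := ((Nat.prime_dvd_prime_iff_eq Nat.prime_two hpp).1 h2p).symm
  subst hp2
  have := CharP.cast_eq_zero F 2
  exact_mod_cast this

/-- an element of order `9` in a field with `64` elements -/
theorem h1_exists_zeta_64 (hF : Fintype.card F = 64) : ∃ ζ : F, ζ ^ 6 = ζ ^ 3 + 1 := by
  classical
  have h2 := h1_two_eq_zero_64 hF
  obtain ⟨g, hord⟩ := Cfsg.Agent.SL3G.h1_exists_generator F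
  rw [hF] at hord
  have h9 : ((g : F) ^ 7) ^ 9 = 1 := by
    rw [← pow_mul, ← Units.val_pow_eq_pow_val]
    have : g ^ (7 * 9) = 1 := by
      have h63 : 7 * 9 = orderOf g := by rw [hord]
      rw [h63]; exact pow_orderOf_eq_one g
    rw [this, Units.val_one]
  have h3 : ((g : F) ^ 7) ^ 3 ≠ 1 := by
    intro h
    rw [← pow_mul] at h
    have h' : (g : F) ^ (7 * 3) = (g : F) ^ 0 := by rw [h, pow_zero]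
    have hd := Cfsg.Agent.SL3G.h1_dvd_of_pow_eq g (7 * 3) 0 (by omega) h'
    rw [hord] at hd
    have := Nat.le_of_dvd (by norm_num) hd
    omega
  refine ⟨(g : F) ^ 7, ?_⟩
  have hne : ((g : F) ^ 7) ^ 3 - 1 ≠ 0 := sub_ne_zero.2 h3
  have hprod : (((g : F) ^ 7) ^ 3 - 1) * (((g : F) ^ 7) ^ 6 + ((g : F) ^ 7) ^ 3 + 1) = 0 := by
    linear_combination h9
  have h0 := (mul_eq_zero.1 hprod).resolve_left hne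
  linear_combination h0 - (((g : F) ^ 7) ^ 3 + 1) * h2

end general

/-! ### machine generated matrix identities -/

theorem h1_q8_MuUi {F : Type*} [Field F] (ζ : F) (hζ : ζ ^ 6 = ζ ^ 3 + 1) (h2 : (2 : F) = 0) :
    (!![1, 1 + ζ^5, 1 + ζ + ζ^2; 0, 1, 1 + ζ^4; 0, 0, 1] : Matrix (Fin 3) (Fin 3) F) * !![1, 1 + ζ^5, 1 + ζ + ζ^2 + ζ^4 + ζ^5; 0, 1, 1 + ζ^4; 0, 0, 1] = !![1, 0, 0; 0, 1, 0; 0, 0, 1] := by
  refine h1_mul3 ?_ ?_ ?_ ?_ ?_ ?_ ?_ ?_ ?_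
  · linear_combination (0) * hζ + (0) * h2
  · linear_combination (0) * hζ + ((1) + (1) * ζ^5) * h2
  · linear_combination ((1) + (1) * ζ^3) * hζ + ((2) + (1) * ζ + (1) * ζ^2 + (1) * ζ^3 + (1) * ζ^4 + (1) * ζ^5) * h2
  · linear_combination (0) * hζ + (0) * h2
  · linear_combination (0) * hζ + (0) * h2
  · linear_combination (0) * hζ + ((1) + (1) * ζ^4) * h2
  · linear_combination (0) * hζ + (0) * h2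
  · linear_combination (0) * hζ + (0) * h2
  · linear_combination (0) * hζ + (0) * h2

theorem h1_q8_VVi {F : Type*} [Field F] (ζ : F) (hζ : ζ ^ 6 = ζ ^ 3 + 1) (h2 : (2 : F) = 0) :
    (!![1, 0, 0; 1 + ζ^4, 1, 0; 1 + ζ + ζ^2, 1 + ζ^5, 1] : Matrix (Fin 3) (Fin 3) F) * !![1, 0, 0; 1 + ζ^4, 1, 0; 1 + ζ + ζ^2 + ζ^4 + ζ^5, 1 + ζ^5, 1] = !![1, 0, 0; 0, 1, 0; 0, 0, 1] := by
  refine h1_mul3 ?_ ?_ ?_ ?_ ?_ ?_ ?_ ?_ ?_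
  · linear_combination (0) * hζ + (0) * h2
  · linear_combination (0) * hζ + (0) * h2
  · linear_combination (0) * hζ + (0) * h2
  · linear_combination (0) * hζ + ((1) + (1) * ζ^4) * h2
  · linear_combination (0) * hζ + (0) * h2
  · linear_combination (0) * hζ + (0) * h2
  · linear_combination ((1) + (1) * ζ^3) * hζ + ((2) + (1) * ζ + (1) * ζ^2 + (1) * ζ^3 + (1) * ζ^4 + (1) * ζ^5) * h2
  · linear_combination (0) * hζ + ((1) + (1) * ζ^5) * h2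
  · linear_combination (0) * hζ + (0) * h2

theorem h1_q8_N0Mu {F : Type*} [Field F] (ζ : F) (hζ : ζ ^ 6 = ζ ^ 3 + 1) (h2 : (2 : F) = 0) :
    (!![0, 0, 1; 0, -1, 0; 1, 0, 0] : Matrix (Fin 3) (Fin 3) F) * !![1, 1 + ζ^5, 1 + ζ + ζ^2; 0, 1, 1 + ζ^4; 0, 0, 1] = !![0, 0, 1; 0, 1, 1 + ζ^4; 1, 1 + ζ^5, 1 + ζ + ζ^2] := by
  refine h1_mul3 ?_ ?_ ?_ ?_ ?_ ?_ ?_ ?_ ?_
  · linear_combination (0) * hζ + (0) * h2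
  · linear_combination (0) * hζ + (0) * h2
  · linear_combination (0) * hζ + (0) * h2
  · linear_combination (0) * hζ + (0) * h2
  · linear_combination (0) * hζ + ((-1)) * h2
  · linear_combination (0) * hζ + ((-1) + (-1) * ζ^4) * h2
  · linear_combination (0) * hζ + (0) * h2
  · linear_combination (0) * hζ + (0) * h2
  · linear_combination (0) * hζ + (0) * h2

theorem h1_q8_T1N0 {F : Type*} [Field F] (ζ : F) (hζ : ζ ^ 6 = ζ ^ 3 + 1) (h2 : (2 : F) = 0) :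
    (!![0, 0, 1; 0, 1, 1 + ζ^4; 1, 1 + ζ^5, 1 + ζ + ζ^2] : Matrix (Fin 3) (Fin 3) F) * !![0, 0, 1; 0, -1, 0; 1, 0, 0] = !![1, 0, 0; 1 + ζ^4, 1, 0; 1 + ζ + ζ^2, 1 + ζ^5, 1] := by
  refine h1_mul3 ?_ ?_ ?_ ?_ ?_ ?_ ?_ ?_ ?_
  · linear_combination (0) * hζ + (0) * h2
  · linear_combination (0) * hζ + (0) * h2
  · linear_combination (0) * hζ + (0) * h2
  · linear_combination (0) * hζ + (0) * h2
  · linear_combination (0) * hζ + ((-1)) * h2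
  · linear_combination (0) * hζ + (0) * h2
  · linear_combination (0) * hζ + (0) * h2
  · linear_combination (0) * hζ + ((-1) + (-1) * ζ^5) * h2
  · linear_combination (0) * hζ + (0) * h2

theorem h1_q8_P1 {F : Type*} [Field F] (ζ : F) (hζ : ζ ^ 6 = ζ ^ 3 + 1) (h2 : (2 : F) = 0) :
    (!![1, 0, 0; 1 + ζ^4, 1, 0; 1 + ζ + ζ^2 + ζ^4 + ζ^5, 1 + ζ^5, 1] : Matrix (Fin 3) (Fin 3) F) * !![1, 1 + ζ^5, 1 + ζ + ζ^2; 0, 1, 1 + ζ^4; 0, 0, 1] = !![1, 1 + ζ^5, 1 + ζ + ζ^2; 1 + ζ^4, 1 + ζ^4 + ζ^5, 1 + ζ + ζ^2 + ζ^3 + ζ^5; 1 + ζ + ζ^2 + ζ^4 + ζ^5, ζ + ζ^2 + ζ^3 + ζ^5, ζ + ζ^2 + ζ^5] := by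
  refine h1_mul3 ?_ ?_ ?_ ?_ ?_ ?_ ?_ ?_ ?_
  · linear_combination (0) * hζ + (0) * h2
  · linear_combination (0) * hζ + (0) * h2
  · linear_combination (0) * hζ + (0) * h2
  · linear_combination (0) * hζ + (0) * h2
  · linear_combination ((1) + (1) * ζ^3) * hζ + ((1) + (1) * ζ^3) * h2
  · linear_combination ((1)) * hζ + ((1) + (1) * ζ^4) * h2
  · linear_combination (0) * hζ + (0) * h2
  · linear_combination ((2) + (2) * ζ + (1) * ζ^3 + (1) * ζ^4) * hζ + ((2) + (1) * ζ + (1) * ζ^3 + (2) * ζ^4 + (1) * ζ^5) * h2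
  · linear_combination ((3) + (1) * ζ + (1) * ζ^3) * hζ + ((3) + (1) * ζ + (1) * ζ^2 + (3) * ζ^3 + (2) * ζ^4 + (1) * ζ^5) * h2

theorem h1_q8_P2 {F : Type*} [Field F] (ζ : F) (hζ : ζ ^ 6 = ζ ^ 3 + 1) (h2 : (2 : F) = 0) :
    (!![1, 1 + ζ^5, 1 + ζ + ζ^2; 1 + ζ^4, 1 + ζ^4 + ζ^5, 1 + ζ + ζ^2 + ζ^3 + ζ^5; 1 + ζ + ζ^2 + ζ^4 + ζ^5, ζ + ζ^2 + ζ^3 + ζ^5, ζ + ζ^2 + ζ^5] : Matrix (Fin 3) (Fin 3) F) * !![1, 0, 0; 1 + ζ^4, 1, 0; 1 + ζ + ζ^2 + ζ^4 + ζ^5, 1 + ζ^5, 1] = !![ζ + ζ^2 + ζ^5, 1 + ζ^2 + ζ^3 + ζ^4, 1 + ζ + ζ^2; ζ^2 + ζ^4 + ζ^5, 1 + ζ, 1 + ζ + ζ^2 + ζ^3 + ζ^5; 1 + ζ + ζ^3 + ζ^4 + ζ^5, 1 + ζ^4, ζ + ζ^2 + ζ^5] := by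
  refine h1_mul3 ?_ ?_ ?_ ?_ ?_ ?_ ?_ ?_ ?_
  · linear_combination ((3) + (1) * ζ + (1) * ζ^3) * hζ + ((3) + (1) * ζ + (1) * ζ^2 + (3) * ζ^3 + (2) * ζ^4 + (1) * ζ^5) * h2
  · linear_combination ((1) + (1) * ζ) * hζ + ((1) + (1) * ζ + (1) * ζ^5) * h2
  · linear_combination (0) * hζ + (0) * h2
  · linear_combination ((5) + (4) * ζ + (2) * ζ^2 + (2) * ζ^3 + (1) * ζ^4) * hζ + ((4) + (3) * ζ + (2) * ζ^2 + (5) * ζ^3 + (5) * ζ^4 + (3) * ζ^5) * h2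
  · linear_combination ((1) + (2) * ζ + (1) * ζ^2 + (1) * ζ^4) * hζ + ((1) + (1) * ζ + (1) * ζ^2 + (1) * ζ^3 + (2) * ζ^4 + (2) * ζ^5) * h2
  · linear_combination (0) * hζ + (0) * h2
  · linear_combination ((6) + (4) * ζ + (2) * ζ^3 + (1) * ζ^4) * hζ + ((3) + (3) * ζ + (2) * ζ^2 + (5) * ζ^3 + (3) * ζ^4 + (2) * ζ^5) * h2
  · linear_combination ((1) + (2) * ζ + (1) * ζ^4) * hζ + ((2) * ζ + (1) * ζ^2 + (1) * ζ^3 + (1) * ζ^4 + (1) * ζ^5) * h2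
  · linear_combination (0) * hζ + (0) * h2

theorem h1_q8_P3 {F : Type*} [Field F] (ζ : F) (hζ : ζ ^ 6 = ζ ^ 3 + 1) (h2 : (2 : F) = 0) :
    (!![ζ + ζ^2 + ζ^5, 1 + ζ^2 + ζ^3 + ζ^4, 1 + ζ + ζ^2; ζ^2 + ζ^4 + ζ^5, 1 + ζ, 1 + ζ + ζ^2 + ζ^3 + ζ^5; 1 + ζ + ζ^3 + ζ^4 + ζ^5, 1 + ζ^4, ζ + ζ^2 + ζ^5] : Matrix (Fin 3) (Fin 3) F) * !![1, 1 + ζ^5, 1 + ζ + ζ^2 + ζ^4 + ζ^5; 0, 1, 1 + ζ^4; 0, 0, 1] = !![ζ + ζ^2 + ζ^5, ζ + ζ^5, 1 + ζ^2 + ζ^3 + ζ^5; ζ^2 + ζ^4 + ζ^5, ζ + ζ^2 + ζ^5, 1 + ζ + ζ^2 + ζ^3 + ζ^4 + ζ^5; 1 + ζ + ζ^3 + ζ^4 + ζ^5, ζ^2 + ζ^5, 1 + ζ^3 + ζ^4 + ζ^5] := by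
  refine h1_mul3 ?_ ?_ ?_ ?_ ?_ ?_ ?_ ?_ ?_
  · linear_combination (0) * hζ + (0) * h2
  · linear_combination ((1) + (2) * ζ + (1) * ζ^4) * hζ + ((1) + (1) * ζ + (1) * ζ^2 + (1) * ζ^3 + (2) * ζ^4) * h2
  · linear_combination ((5) + (4) * ζ + (1) * ζ^2 + (1) * ζ^3 + (1) * ζ^4) * hζ + ((3) + (3) * ζ + (2) * ζ^2 + (4) * ζ^3 + (4) * ζ^4 + (1) * ζ^5) * h2
  · linear_combination (0) * hζ + (0) * h2
  · linear_combination ((1) + (2) * ζ + (1) * ζ^3 + (1) * ζ^4) * hζ + ((1) + (1) * ζ + (1) * ζ^3 + (2) * ζ^4) * h2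
  · linear_combination ((5) + (3) * ζ + (1) * ζ^2 + (2) * ζ^3 + (1) * ζ^4) * hζ + ((3) + (2) * ζ + (1) * ζ^2 + (4) * ζ^3 + (3) * ζ^4 + (2) * ζ^5) * h2
  · linear_combination (0) * hζ + (0) * h2
  · linear_combination ((2) + (1) * ζ + (1) * ζ^2 + (1) * ζ^3 + (1) * ζ^4) * hζ + ((2) + (1) * ζ + (2) * ζ^3 + (2) * ζ^4 + (1) * ζ^5) * h2
  · linear_combination ((5) + (3) * ζ + (3) * ζ^2 + (2) * ζ^3 + (1) * ζ^4) * hζ + ((3) + (3) * ζ + (3) * ζ^2 + (4) * ζ^3 + (4) * ζ^4 + (4) * ζ^5) * h2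

theorem h1_q8_P4 {F : Type*} [Field F] (ζ : F) (hζ : ζ ^ 6 = ζ ^ 3 + 1) (h2 : (2 : F) = 0) :
    (!![ζ + ζ^2 + ζ^5, ζ + ζ^5, 1 + ζ^2 + ζ^3 + ζ^5; ζ^2 + ζ^4 + ζ^5, ζ + ζ^2 + ζ^5, 1 + ζ + ζ^2 + ζ^3 + ζ^4 + ζ^5; 1 + ζ + ζ^3 + ζ^4 + ζ^5, ζ^2 + ζ^5, 1 + ζ^3 + ζ^4 + ζ^5] : Matrix (Fin 3) (Fin 3) F) * !![1, 0, 0; 1 + ζ^4, 1, 0; 1 + ζ + ζ^2, 1 + ζ^5, 1] = !![1 + ζ^2 + ζ^3 + ζ^4 + ζ^5, 1 + ζ + ζ^3 + ζ^4, 1 + ζ^2 + ζ^3 + ζ^5; 1 + ζ^2 + ζ^4, 1 + ζ^2, 1 + ζ + ζ^2 + ζ^3 + ζ^4 + ζ^5; ζ + ζ^3 + ζ^5, ζ + ζ^3 + ζ^4, 1 + ζ^3 + ζ^4 + ζ^5] := by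
  refine h1_mul3 ?_ ?_ ?_ ?_ ?_ ?_ ?_ ?_ ?_
  · linear_combination ((2) + (1) * ζ + (1) * ζ^3) * hζ + ((1) + (2) * ζ + (1) * ζ^2 + (2) * ζ^3 + (1) * ζ^4 + (2) * ζ^5) * h2
  · linear_combination ((2) * ζ + (1) * ζ^2 + (1) * ζ^4) * hζ + ((1) * ζ + (1) * ζ^2 + (1) * ζ^4 + (2) * ζ^5) * h2
  · linear_combination (0) * hζ + (0) * h2
  · linear_combination ((4) + (1) * ζ + (1) * ζ^3) * hζ + ((2) + (2) * ζ + (2) * ζ^2 + (4) * ζ^3 + (2) * ζ^4 + (3) * ζ^5) * h2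
  · linear_combination ((2) + (2) * ζ + (1) * ζ^2 + (1) * ζ^3 + (1) * ζ^4) * hζ + ((1) + (2) * ζ + (1) * ζ^2 + (2) * ζ^3 + (2) * ζ^4 + (2) * ζ^5) * h2
  · linear_combination (0) * hζ + (0) * h2
  · linear_combination ((4) + (1) * ζ + (1) * ζ^3) * hζ + ((3) + (1) * ζ + (1) * ζ^2 + (3) * ζ^3 + (2) * ζ^4 + (2) * ζ^5) * h2
  · linear_combination ((1) + (1) * ζ + (1) * ζ^2 + (1) * ζ^3 + (1) * ζ^4) * hζ + ((1) + (1) * ζ^2 + (1) * ζ^3 + (1) * ζ^4 + (2) * ζ^5) * h2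
  · linear_combination (0) * hζ + (0) * h2

theorem h1_q8_P5 {F : Type*} [Field F] (ζ : F) (hζ : ζ ^ 6 = ζ ^ 3 + 1) (h2 : (2 : F) = 0) :
    (!![1 + ζ^2 + ζ^3 + ζ^4 + ζ^5, 1 + ζ + ζ^3 + ζ^4, 1 + ζ^2 + ζ^3 + ζ^5; 1 + ζ^2 + ζ^4, 1 + ζ^2, 1 + ζ + ζ^2 + ζ^3 + ζ^4 + ζ^5; ζ + ζ^3 + ζ^5, ζ + ζ^3 + ζ^4, 1 + ζ^3 + ζ^4 + ζ^5] : Matrix (Fin 3) (Fin 3) F) * !![1, 1 + ζ^5, 1 + ζ + ζ^2; 0, 1, 1 + ζ^4; 0, 0, 1] = !![1 + ζ^2 + ζ^3 + ζ^4 + ζ^5, 1 + ζ + ζ^4 + ζ^5, 1 + ζ^4; 1 + ζ^2 + ζ^4, 1 + ζ + ζ^5, 1; ζ + ζ^3 + ζ^5, 1 + ζ + ζ^2 + ζ^3 + ζ^4, ζ^3 + ζ^4 + ζ^5] := by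
  refine h1_mul3 ?_ ?_ ?_ ?_ ?_ ?_ ?_ ?_ ?_
  · linear_combination (0) * hζ + (0) * h2
  · linear_combination ((1) + (2) * ζ + (1) * ζ^2 + (1) * ζ^3 + (1) * ζ^4) * hζ + ((1) + (1) * ζ + (1) * ζ^2 + (2) * ζ^3 + (2) * ζ^4 + (1) * ζ^5) * h2
  · linear_combination ((2) + (2) * ζ + (1) * ζ^2) * hζ + ((2) + (2) * ζ + (2) * ζ^2 + (3) * ζ^3 + (3) * ζ^4 + (3) * ζ^5) * h2
  · linear_combination (0) * hζ + (0) * h2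
  · linear_combination ((1) + (1) * ζ + (1) * ζ^3) * hζ + ((1) + (1) * ζ^2 + (1) * ζ^3 + (1) * ζ^4) * h2
  · linear_combination ((2)) * hζ + ((2) + (1) * ζ + (2) * ζ^2 + (2) * ζ^3 + (2) * ζ^4 + (1) * ζ^5) * h2
  · linear_combination (0) * hζ + (0) * h2
  · linear_combination ((1) + (1) * ζ + (1) * ζ^2 + (1) * ζ^4) * hζ + ((1) * ζ + (1) * ζ^3 + (1) * ζ^4 + (1) * ζ^5) * h2
  · linear_combination ((1) + (2) * ζ + (1) * ζ^2) * hζ + ((1) + (2) * ζ + (1) * ζ^2 + (2) * ζ^3 + (2) * ζ^4 + (2) * ζ^5) * h2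

theorem h1_q8_P6 {F : Type*} [Field F] (ζ : F) (hζ : ζ ^ 6 = ζ ^ 3 + 1) (h2 : (2 : F) = 0) :
    (!![1 + ζ^2 + ζ^3 + ζ^4 + ζ^5, 1 + ζ + ζ^4 + ζ^5, 1 + ζ^4; 1 + ζ^2 + ζ^4, 1 + ζ + ζ^5, 1; ζ + ζ^3 + ζ^5, 1 + ζ + ζ^2 + ζ^3 + ζ^4, ζ^3 + ζ^4 + ζ^5] : Matrix (Fin 3) (Fin 3) F) * !![1, 0, 0; 1 + ζ^4, 1, 0; 1 + ζ + ζ^2, 1 + ζ^5, 1] = !![1 + ζ^2 + ζ^5, 1 + ζ, 1 + ζ^4; 0, ζ, 1; 0, 0, ζ^3 + ζ^4 + ζ^5] := by
  refine h1_mul3 ?_ ?_ ?_ ?_ ?_ ?_ ?_ ?_ ?_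
  · linear_combination ((2) + (1) * ζ^2 + (1) * ζ^3) * hζ + ((2) + (1) * ζ + (1) * ζ^2 + (2) * ζ^3 + (2) * ζ^4 + (2) * ζ^5) * h2
  · linear_combination ((1) + (1) * ζ^3) * hζ + ((1) + (1) * ζ^3 + (1) * ζ^4 + (1) * ζ^5) * h2
  · linear_combination (0) * hζ + (0) * h2
  · linear_combination ((1) + (1) * ζ^3) * hζ + ((2) + (1) * ζ + (1) * ζ^2 + (1) * ζ^3 + (1) * ζ^4 + (1) * ζ^5) * h2
  · linear_combination (0) * hζ + ((1) + (1) * ζ^5) * h2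
  · linear_combination (0) * hζ + (0) * h2
  · linear_combination ((3) + (2) * ζ + (1) * ζ^2) * hζ + ((2) + (2) * ζ + (1) * ζ^2 + (3) * ζ^3 + (3) * ζ^4 + (3) * ζ^5) * h2
  · linear_combination ((1) + (1) * ζ + (1) * ζ^2 + (1) * ζ^3 + (1) * ζ^4) * hζ + ((1) + (1) * ζ + (1) * ζ^2 + (2) * ζ^3 + (2) * ζ^4 + (1) * ζ^5) * h2
  · linear_combination (0) * hζ + (0) * h2

theorem h1_q8_W {F : Type*} [Field F] (ζ : F) (hζ : ζ ^ 6 = ζ ^ 3 + 1) (h2 : (2 : F) = 0) :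
    (!![1, 0, 0; 1 + ζ^4, 1, 0; 1 + ζ + ζ^2 + ζ^4 + ζ^5, 1 + ζ^5, 1] : Matrix (Fin 3) (Fin 3) F) * !![1, 1 + ζ^5, 1 + ζ + ζ^2; 0, 1, 1 + ζ^4; 0, 0, 1] * !![1, 0, 0; 1 + ζ^4, 1, 0; 1 + ζ + ζ^2 + ζ^4 + ζ^5, 1 + ζ^5, 1] * !![1, 1 + ζ^5, 1 + ζ + ζ^2 + ζ^4 + ζ^5; 0, 1, 1 + ζ^4; 0, 0, 1] * !![1, 0, 0; 1 + ζ^4, 1, 0; 1 + ζ + ζ^2, 1 + ζ^5, 1] * !![1, 1 + ζ^5, 1 + ζ + ζ^2; 0, 1, 1 + ζ^4; 0, 0, 1] * !![1, 0, 0; 1 + ζ^4, 1, 0; 1 + ζ + ζ^2, 1 + ζ^5, 1] = !![1 + ζ^2 + ζ^5, 1 + ζ, 1 + ζ^4; 0, ζ, 1; 0, 0, ζ^3 + ζ^4 + ζ^5] := by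
  rw [h1_q8_P1 ζ hζ h2, h1_q8_P2 ζ hζ h2, h1_q8_P3 ζ hζ h2, h1_q8_P4 ζ hζ h2, h1_q8_P5 ζ hζ h2, h1_q8_P6 ζ hζ h2]


/-! ### the scalar identities -/

section scalars

variable {F : Type*} [Field F] (ζ : F) (hζ : ζ ^ 6 = ζ ^ 3 + 1) (h2 : (2 : F) = 0)
include hζ h2

theorem h1_q8_a8 : -((1 + ζ^5) ^ 8) = 1 + ζ^4 := by
  linear_combination ((-1120) + (-900) * ζ + (-790) * ζ^2 + (-700) * ζ^3 + (-565) * ζ^4 + (-482) * ζ^5 + (-420) * ζ^6 + (-335) * ζ^7 + (-308) * ζ^8 + (-280) * ζ^9 + (-202) * ζ^10 + (-174) * ζ^11 + (-140) * ζ^12 + (-133) * ζ^13 + (-134) * ζ^14 + (-84) * ζ^15 + (-69) * ζ^16 + (-40) * ζ^17 + (-56) * ζ^18 + (-64) * ζ^19 + (-24) * ζ^20 + (-28) * ζ^21 + (-5) * ζ^22 + (-16) * ζ^23 + (-28) * ζ^24 + (-3) * ζ^25 + (-8) * ζ^26 + (-2) * ζ^28 + (-8) * ζ^29 + (-1) * ζ^31 + (-1) * ζ^34) * hζ + ((-561)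 + (-450) * ζ + (-395) * ζ^2 + (-910) * ζ^3 + (-733) * ζ^4 + (-640) * ζ^5) * h2

theorem h1_q8_cond : (1 + ζ + ζ^2) + (1 + ζ + ζ^2) ^ 8 + (1 + ζ^5) * (1 + ζ^5) ^ 8 = 0 := by
  linear_combination ((5841) + (4997) * ζ + (4293) * ζ^2 + (3463) * ζ^3 + (2743) * ζ^4 + (2142) * ζ^5 + (1594) * ζ^6 + (1238) * ζ^7 + (1044) * ζ^8 + (853) * ζ^9 + (685) * ζ^10 + (594) * ζ^11 + (475) * ζ^12 + (441) * ζ^13 + (414) * ζ^14 + (286) * ζ^15 + (243) * ζ^16 + (180) * ζ^17 + (189) * ζ^18 + (198) * ζ^19 + (108) * ζ^20 + (97) * ζ^21 + (45) * ζ^22 + (72) * ζ^23 + (92) * ζ^24 + (27) * ζ^25 + (36) * ζ^26 + (5) * ζ^27 + (18) * ζ^28 + (36) * ζ^29 + (3) * ζ^30 + (9) * ζ^31 + (2) * ζ^33 + (9) * ζ^34 + (1) * ζ^36 + (1) * ζ^39) * hζ + ((2922) + (2503) * ζ + (2165) * ζ^2 + (4708) * ζ^3 + (4003) * ζ^4 + (3474) * ζ^5) * h2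

theorem h1_q8_a_ne : (1 + ζ^5) ≠ 0 := by
  intro h
  have h1 : (1 + ζ^5) * (1 + ζ + ζ^2 + ζ^3 + ζ^4) = 1 := by
    linear_combination ((2) + (1) * ζ + (1) * ζ^2 + (1) * ζ^3) * hζ + ((1) + (1) * ζ + (1) * ζ^2 + (2) * ζ^3 + (1) * ζ^4 + (1) * ζ^5) * h2
  rw [h, zero_mul] at h1
  exact zero_ne_one h1

theorem h1_q8_b_ne : (1 + ζ + ζ^2) ≠ 0 := by
  intro h
  have h1 : (1 + ζ + ζ^2) * (ζ^3 + ζ^4) = 1 := by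
    linear_combination ((1)) * hζ + ((1) * ζ^3 + (1) * ζ^4 + (1) * ζ^5) * h2
  rw [h, zero_mul] at h1
  exact zero_ne_one h1

omit h2 in
theorem h1_q8_zeta_ne : ζ ≠ 0 := by
  rintro rfl
  norm_num at hζ

theorem h1_q8_s : (1 + ζ^2 + ζ^5) / ζ = ζ + ζ^2 + ζ^4 + ζ^5 := by
  rw [div_eq_iff (h1_q8_zeta_ne ζ hζ)]
  linear_combination ((-1)) * hζ + ((-1) * ζ^3) * h2

theorem h1_q8_s4 : (ζ + ζ^2 + ζ^4 + ζ^5) ^ 4 ≠ ζ + ζ^2 + ζ^4 + ζ^5 := by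
  intro h
  have h1 : ((ζ + ζ^2 + ζ^4 + ζ^5) ^ 4 - (ζ + ζ^2 + ζ^4 + ζ^5)) * (1 + ζ^2 + ζ^3 + ζ^4 + ζ^5) = 1 := by
    linear_combination ((1503) + (1237) * ζ + (1095) * ζ^2 + (930) * ζ^3 + (765) * ζ^4 + (674) * ζ^5 + (569) * ζ^6 + (462) * ζ^7 + (395) * ζ^8 + (320) * ζ^9 + (247) * ζ^10 + (196) * ζ^11 + (142) * ζ^12 + (96) * ζ^13 + (67) * ζ^14 + (40) * ζ^15 + (20) * ζ^16 + (11) * ζ^17 + (5) * ζ^18 + (1) * ζ^19) * hζ + ((751) + (618) * ζ + (547) * ζ^2 + (1216) * ζ^3 + (1000) * ζ^4 + (885) * ζ^5) * h2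
  rw [h, sub_self, zero_mul] at h1
  exact zero_ne_one h1

theorem h1_q8_s8 : (ζ + ζ^2 + ζ^4 + ζ^5) ^ 8 ≠ ζ + ζ^2 + ζ^4 + ζ^5 := by
  intro h
  have h1 : ((ζ + ζ^2 + ζ^4 + ζ^5) ^ 8 - (ζ + ζ^2 + ζ^4 + ζ^5)) * (1 + ζ + ζ^2 + ζ^5) = 1 := by
    linear_combination ((2120559) + (1796361) * ζ + (1538650) * ζ^2 + (1310579) * ζ^3 + (1110213) * ζ^4 + (950938) * ζ^5 + (809983) * ζ^6 + (686150) * ζ^7 + (587711) * ζ^8 + (500588) * ζ^9 + (424027) * ζ^10 + (363127) * ζ^11 + (309169) * ζ^12 + (261644) * ζ^13 + (223658) * ζ^14 + (189815) * ζ^15 + (159790) * ζ^16 + (135462) * ζ^17 + (113521) * ζ^18 + (93886) * ζ^19 + (77798) * ζ^20 + (63223) * ζ^21 + (50238) * ζ^22 + (39820) * ζ^23 + (30690) * ζ^24 + (22774) * ζ^25 + (16810) * ζ^26 + (12037) * ζ^27 + (8102) * ζ^28 + (5376) * ζ^29 + (3503) * ζ^30 + (2084) * ζ^31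 + (1177) * ζ^32 + (671) * ζ^33 + (345) * ζ^34 + (151) * ζ^35 + (66) * ζ^36 + (28) * ζ^37 + (8) * ζ^38 + (1) * ζ^39) * hζ + ((1060279) + (898180) * ζ + (769324) * ζ^2 + (1715568) * ζ^3 + (1453286) * ζ^4 + (1244793) * ζ^5) * h2
  rw [h, sub_self, zero_mul] at h1
  exact zero_ne_one h1

end scalars

/-! ### the piece Q8 -/

theorem q8 {F : Type*} [Field F] [Fintype F] (hF : Fintype.card F = 8 ^ 2) : JGoal F 8 := by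
  have hF64 : Fintype.card F = 64 := by rw [hF]; norm_num
  have h2 := h1_two_eq_zero_64 hF64
  obtain ⟨ζ, hζ⟩ := h1_exists_zeta_64 hF64
  have hu : U 8 (1 + ζ^5) (1 + ζ + ζ^2) ∈ SUJ F 8 := h1_U_mem hF _ _ (h1_q8_cond ζ hζ h2)
  have hg : h1_n0 F ∈ SUJ F 8 := h1_n0_mem hF
  refine ⟨U 8 (1 + ζ^5) (1 + ζ + ζ^2), h1_n0 F, hu, hg, ⟨_, _, h1_q8_a_ne ζ hζ h2, rfl⟩, ?_⟩
  obtain ⟨H, hHdef⟩ : ∃ H : Subgroup (SpecialLinearGroup (Fin 3) F), H = Subgroup.closure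
      ({U 8 (1 + ζ^5) (1 + ζ + ζ^2), h1_n0 F * U 8 (1 + ζ^5) (1 + ζ + ζ^2) * (h1_n0 F)⁻¹} :
        Set (SpecialLinearGroup (Fin 3) F)) := ⟨_, rfl⟩
  rw [← hHdef]
  have hH : H ≤ SUJ F 8 := by
    rw [hHdef, Subgroup.closure_le]
    rintro x (rfl | rfl)
    · exact hu
    · exact mul_mem (mul_mem hg hu) (inv_mem hg)
  have huH : U 8 (1 + ζ^5) (1 + ζ + ζ^2) ∈ H := by
    rw [hHdef]; exact Subgroup.subset_closure (by simp)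
  have hvH : h1_n0 F * U 8 (1 + ζ^5) (1 + ζ + ζ^2) * (h1_n0 F)⁻¹ ∈ H := by
    rw [hHdef]; exact Subgroup.subset_closure (by simp)
  -- the matrices of `u` and `v`
  have hMu : ((U 8 (1 + ζ^5) (1 + ζ + ζ^2) : SpecialLinearGroup (Fin 3) F) : Matrix (Fin 3) (Fin 3) F) =
      !![1, 1 + ζ^5, 1 + ζ + ζ^2; 0, 1, 1 + ζ^4; 0, 0, 1] := by
    rw [U_coe]
    exact h1_mat3_ext rfl rfl rfl rfl rfl (h1_q8_a8 ζ hζ h2) rfl rfl rfl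
  have hV : ((h1_n0 F * U 8 (1 + ζ^5) (1 + ζ + ζ^2) * (h1_n0 F)⁻¹ : SpecialLinearGroup (Fin 3) F) :
      Matrix (Fin 3) (Fin 3) F) = !![1, 0, 0; 1 + ζ^4, 1, 0; 1 + ζ + ζ^2, 1 + ζ^5, 1] := by
    rw [h1_n0_inv, Matrix.SpecialLinearGroup.coe_mul, Matrix.SpecialLinearGroup.coe_mul, hMu,
      h1_n0_coe, h1_q8_N0Mu ζ hζ h2, h1_q8_T1N0 ζ hζ h2]
  have HMu : Cfsg.Agent.SL3G.Has H (!![1, 1 + ζ^5, 1 + ζ + ζ^2; 0, 1, 1 + ζ^4; 0, 0, 1] : Matrix (Fin 3) (Fin 3) F) := ⟨_, huH, hMu⟩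
  have HV : Cfsg.Agent.SL3G.Has H (!![1, 0, 0; 1 + ζ^4, 1, 0; 1 + ζ + ζ^2, 1 + ζ^5, 1] : Matrix (Fin 3) (Fin 3) F) := ⟨_, hvH, hV⟩
  have HUi : Cfsg.Agent.SL3G.Has H (!![1, 1 + ζ^5, 1 + ζ + ζ^2 + ζ^4 + ζ^5; 0, 1, 1 + ζ^4; 0, 0, 1] : Matrix (Fin 3) (Fin 3) F) := by
    refine HMu.inv ?_
    rw [h1_q8_MuUi ζ hζ h2, Matrix.one_fin_three]
  have HVi : Cfsg.Agent.SL3G.Has H (!![1, 0, 0; 1 + ζ^4, 1, 0; 1 + ζ + ζ^2 + ζ^4 + ζ^5, 1 + ζ^5, 1] : Matrix (Fin 3) (Fin 3) F) := by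
    refine HV.inv ?_
    rw [h1_q8_VVi ζ hζ h2, Matrix.one_fin_three]
  have HW : Cfsg.Agent.SL3G.Has H (!![1 + ζ^2 + ζ^5, 1 + ζ, 1 + ζ^4; 0, ζ, 1; 0, 0, ζ^3 + ζ^4 + ζ^5] : Matrix (Fin 3) (Fin 3) F) :=
    ((((((HVi.mul HMu).mul HVi).mul HUi).mul HV).mul HMu).mul HV).congr (h1_q8_W ζ hζ h2)
  obtain ⟨w, hwH, hwcoe⟩ := HW
  -- the multiplier
  have hmul : ∀ x ∈ Aset 8 H, (ζ + ζ^2 + ζ^4 + ζ^5) * x ∈ Aset 8 H := by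
    intro x hx
    have h := Aset_mul_of_upper hF H hH w hwH (by rw [hwcoe]; rfl) (by rw [hwcoe]; rfl)
      (by rw [hwcoe]; rfl) x hx
    rw [hwcoe] at h
    have e00 : (!![1 + ζ^2 + ζ^5, 1 + ζ, 1 + ζ^4; 0, ζ, 1; 0, 0, ζ^3 + ζ^4 + ζ^5] : Matrix (Fin 3) (Fin 3) F) 0 0 = 1 + ζ^2 + ζ^5 := rfl
    have e11 : (!![1 + ζ^2 + ζ^5, 1 + ζ, 1 + ζ^4; 0, ζ, 1; 0, 0, ζ^3 + ζ^4 + ζ^5] : Matrix (Fin 3) (Fin 3) F) 1 1 = ζ := rfl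
    rw [e00, e11, h1_q8_s ζ hζ h2] at h
    exact h
  have hcl : Subfield.closure ({ζ + ζ^2 + ζ^4 + ζ^5} : Set F) = ⊤ :=
    h1_closure_top_64 hF64 _ (h1_q8_s4 ζ hζ h2) (h1_q8_s8 ζ hζ h2)
  have hAll := Aset_univ hF H (1 + ζ^5) (h1_q8_a_ne ζ hζ h2) ⟨_, huH⟩ (ζ + ζ^2 + ζ^4 + ζ^5) hmul hcl
  refine gen_top hF (by norm_num) H hH hAll ⟨_, hvH, ?_⟩
  rw [hV]
  exact h1_q8_b_ne ζ hζ h2

end Cfsg.Agent.SU3G
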