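import Mathlib

/-!
# A computable model of the field with 25 elements (helper8, S2283 swarm)

`K25 = (ZMod 5)[ω]/(ω² − 2)` as `QuadraticAlgebra (ZMod 5) 2 0`: equality of matrices over `K25` is
decidable by evaluation, and `K25` embeds into every field with 25 elements.
-/

set_option autoImplicit false

namespace Cfsg.Agent.SU3G

/-- the model `(ZMod 5)[ω]/(ω² − 2)` of the field with 25 elements. -/
abbrev K25 : Type := QuadraticAlgebra (ZMod 5) 2 0

instance h8_fintypeK25 : Fintype K25 :=
  Fintype.ofEquiv (ZMod 5 × ZMod 5) (QuadraticAlgebra.equivProd (2 : ZMod 5) 0).symm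

theorem h8_K25_inv : ∀ z : K25, z ≠ 0 → ∃ w : K25, z * w = 1 := by decide +kernel

/-- the characteristic of a field with `p ^ 2` elements (`p` prime) is `p`. -/
theorem h8_charP_of_card_sq {F : Type*} [Field F] [Fintype F] {p : ℕ} (hp : p.Prime)
    (hF : Fintype.card F = p ^ 2) : CharP F p := by
  obtain ⟨n, hq, hcard⟩ := FiniteField.card F (ringChar F)
  have hdvd : ringChar F ∣ p ^ 2 := by
    rw [← hF, hcard]
    exact dvd_pow_self _ n.ne_zero
  have hdvd' : ringChar F ∣ p := hq.dvd_of_dvd_pow hdvd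
  have heq : ringChar F = p := ((Nat.dvd_prime hp).mp hdvd').resolve_left hq.one_lt.ne'
  rw [← heq]
  exact ringChar.charP F

/-- `K25` embeds into every field with 25 elements. -/
theorem h8_exists_hom25 {F : Type*} [Field F] [Fintype F] (hF : Fintype.card F = 25) :
    ∃ f : K25 →+* F, Function.Injective f := by
  have : CharP F 5 := h8_charP_of_card_sq (p := 5) (by norm_num) (by rw [hF]; norm_num)
  let _ : Algebra (ZMod 5) F := ZMod.algebra F 5
  have hchar : ringChar F ≠ 2 := by
    rw [ringChar.eq F 5]; norm_num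
  have h2 : (2 : F) ≠ 0 := by
    intro h
    have h' : ((2 : ℕ) : F) = 0 := by exact_mod_cast h
    have := (CharP.cast_eq_zero_iff F 5 2).mp h'
    omega
  have hsq : IsSquare (2 : F) := by
    rw [FiniteField.isSquare_iff hchar h2, hF]
    have h1 : ((4096 : ℕ) : F) = ((1 : ℕ) : F) := by
      rw [CharP.natCast_eq_natCast F 5]
      decide
    have : (2 : F) ^ (25 / 2) = ((4096 : ℕ) : F) := by norm_num
    rw [this, h1, Nat.cast_one]
  obtain ⟨x, hx⟩ := hsq
  have hx' : x * x = (2 : ZMod 5) • (1 : F) + (0 : ZMod 5) • x := by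
    rw [zero_smul, add_zero, ← hx, Algebra.smul_def, mul_one, map_ofNat]
  let g : K25 →ₐ[ZMod 5] F := QuadraticAlgebra.lift ⟨x, hx'⟩
  refine ⟨g.toRingHom, ?_⟩
  rw [injective_iff_map_eq_zero]
  intro z hz
  by_contra hne
  obtain ⟨w, hw⟩ := h8_K25_inv z hne
  have : g.toRingHom (z * w) = 1 := by rw [hw, map_one]
  rw [map_mul, hz, zero_mul] at this
  exact zero_ne_one this

end Cfsg.Agent.SU3G
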