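import Cfsg.Agent.SU3G.Base
import Cfsg.Agent.SU3G.H1_NT
import Cfsg.Agent.SU3G.H8_F25
import Cfsg.Agent.SL3G.H8_Q37
import Cfsg.Agent.SU3G.H5_MOD
import Cfsg.Agent.SU3G.H1_GEN3

/-!
# S2283 swarm, piece Q5 (helper8): `SU_3(5)` in the antidiagonal model

Symmetric pair `u = U(a,b)`, `v = n₀ u n₀⁻¹` with `(a,b) = (3, 3 + ω)`, `ω² = 2`, and the word
`W = v⁻¹ v⁻¹ u⁻¹ v⁻¹ v⁻¹ u⁻¹ v`, which is upper triangular with `W₀₀ / W₁₁` outside the prime field.
All matrix computations are done in the computable model `K25` and transported along an embedding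
`K25 →+* F`.
-/

set_option autoImplicit false

namespace Cfsg.Agent.SU3G

open Matrix Cfsg

/-! ### membership in `SUJ` -/

section mem

variable {F : Type*} [Field F]

theorem h8_mulVec3 (m00 m01 m02 m10 m11 m12 m20 m21 m22 : F) (x : Fin 3 → F) :
    (!![m00, m01, m02; m10, m11, m12; m20, m21, m22] : Matrix (Fin 3) (Fin 3) F) *ᵥ x =
      ![m00 * x 0 + m01 * x 1 + m02 * x 2, m10 * x 0 + m11 * x 1 + m12 * x 2,
        m20 * x 0 + m21 * x 1 + m22 * x 2] := by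
  funext i
  fin_cases i <;> simp [Matrix.mulVec, dotProduct, Fin.sum_univ_three]

/-- `U(a,b)` preserves the antidiagonal form when `b + b̄ + a ā = 0` (here `q = 5`). -/
theorem h8_U_mem5 [Fintype F] (hF : Fintype.card F = 25) (a b : F) (h : b + b ^ 5 + a * a ^ 5 = 0) :
    U 5 a b ∈ SUJ F 5 := by
  have hchar : CharP F 5 := h8_charP_of_card_sq (p := 5) (by norm_num) (by rw [hF]; norm_num)
  have : ExpChar F 5 := ExpChar.prime (by norm_num)
  have hfr : ∀ z : F, z ^ 5 = frobenius F 5 z := fun z => (frobenius_def 5 z).symm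
  have haa : frobenius F 5 (frobenius F 5 a) = a := by
    rw [← hfr, ← hfr, ← pow_mul]
    have := FiniteField.pow_card a
    rwa [hF] at this
  rw [mem_SUJ]
  intro x y
  show hJ 5 ((U 5 a b).1 *ᵥ x) ((U 5 a b).1 *ᵥ y) = hJ 5 x y
  have hU : (U 5 a b).1 = !![1, a, b; 0, 1, -(a ^ 5); 0, 0, 1] := rfl
  rw [hU, h8_mulVec3, h8_mulVec3]
  unfold hJ
  simp only [Matrix.cons_val_zero, Matrix.cons_val_one, Matrix.cons_val_two, Matrix.head_cons,
    Matrix.tail_cons]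
  simp only [hfr] at h
  simp only [hfr, map_add, map_mul, map_neg, map_zero, map_one, haa]
  linear_combination (x 2 * frobenius F 5 (y 2)) * h

/-- the antidiagonal monomial matrix `n₀` preserves the antidiagonal form (`q = 5`). -/
theorem h8_n0_mem5 (g : SpecialLinearGroup (Fin 3) F)
    (hg : (g : Matrix (Fin 3) (Fin 3) F) = !![0, 0, 1; 0, -1, 0; 1, 0, 0]) : g ∈ SUJ F 5 := by
  rw [mem_SUJ]
  intro x y
  rw [hg, h8_mulVec3, h8_mulVec3]
  unfold hJ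
  simp only [Matrix.cons_val_zero, Matrix.cons_val_one, Matrix.cons_val_two, Matrix.head_cons,
    Matrix.tail_cons]
  ring

end mem

/-! ### the model computation -/

/-- `u = U(3, 3 + ω)` over `K25`. -/
def h8_uK : SpecialLinearGroup (Fin 3) K25 :=
  ⟨!![1, 3, ⟨3, 1⟩; 0, 1, -((3 : K25) ^ 5); 0, 0, 1], by decide +kernel⟩

/-- `v = n₀ u n₀⁻¹` over `K25`. -/
def h8_vK : SpecialLinearGroup (Fin 3) K25 :=
  ⟨!![1, 0, 0; (3 : K25) ^ 5, 1, 0; ⟨3, 1⟩, -3, 1], by decide +kernel⟩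

/-- `u⁻¹` over `K25`. -/
def h8_uiK : SpecialLinearGroup (Fin 3) K25 :=
  ⟨!![1, 2, ⟨3, 4⟩; 0, 1, 3; 0, 0, 1], by decide +kernel⟩

/-- `v⁻¹` over `K25`. -/
def h8_viK : SpecialLinearGroup (Fin 3) K25 :=
  ⟨!![1, 0, 0; 2, 1, 0; ⟨3, 4⟩, 3, 1], by decide +kernel⟩

/-- `n₀` over `K25`. -/
def h8_nK : SpecialLinearGroup (Fin 3) K25 :=
  ⟨!![0, 0, 1; 0, -1, 0; 1, 0, 0], by decide +kernel⟩

theorem h8_uiK_eq : h8_uiK = h8_uK⁻¹ := by
  apply eq_inv_of_mul_eq_one_left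
  apply Subtype.ext
  show h8_uiK.1 * h8_uK.1 = 1
  decide +kernel

theorem h8_viK_eq : h8_viK = h8_vK⁻¹ := by
  apply eq_inv_of_mul_eq_one_left
  apply Subtype.ext
  show h8_viK.1 * h8_vK.1 = 1
  decide +kernel

theorem h8_conjK : h8_nK * h8_uK * h8_nK⁻¹ = h8_vK := by
  rw [mul_inv_eq_iff_eq_mul]
  apply Subtype.ext
  show h8_nK.1 * h8_uK.1 = h8_vK.1 * h8_nK.1
  decide +kernel

/-- the word `W = v⁻¹ v⁻¹ u⁻¹ v⁻¹ v⁻¹ u⁻¹ v`. -/
def h8_WK : SpecialLinearGroup (Fin 3) K25 :=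
  (([3, 3, 2, 3, 3, 2, 1] : List (Fin 4)).map ![h8_uK, h8_vK, h8_uiK, h8_viK]).prod

theorem h8_WK_mem : h8_WK ∈ Subgroup.closure ({h8_uK, h8_vK} : Set (SpecialLinearGroup (Fin 3) K25)) :=
  Cfsg.Agent.SL3G.h8_word_mem _ _ _ _ h8_uiK_eq h8_viK_eq _

theorem h8_WK_coe : (h8_WK : Matrix (Fin 3) (Fin 3) K25) =
    !![⟨2, 1⟩, ⟨0, 4⟩, ⟨1, 3⟩; 0, ⟨3, 3⟩, ⟨1, 4⟩; 0, 0, ⟨1, 3⟩] := by
  decide +kernel

theorem h8_cond5 : (⟨3, 1⟩ : K25) + (⟨3, 1⟩ : K25) ^ 5 + 3 * (3 : K25) ^ 5 = 0 := by decide +kernel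

theorem h8_s5 : (⟨2, 1⟩ : K25) ^ 5 * ⟨3, 3⟩ ≠ ⟨2, 1⟩ * (⟨3, 3⟩ : K25) ^ 5 := by decide +kernel

/-! ### transport to `F` -/

section main

variable {F : Type*} [Field F]

theorem h8_map_coe (f : K25 →+* F) (M : SpecialLinearGroup (Fin 3) K25) (i j : Fin 3) :
    ((SpecialLinearGroup.map f M : SpecialLinearGroup (Fin 3) F) : Matrix (Fin 3) (Fin 3) F) i j
      = f ((M : Matrix (Fin 3) (Fin 3) K25) i j) := by
  rw [SpecialLinearGroup.map_apply_coe]
  rfl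

/-- a proper subfield of a field with 25 elements consists of fixed points of `x ↦ x ^ 5`. -/
theorem h8_closure_top25 [Fintype F] (hF : Fintype.card F = 25) (s : F) (hs : s ^ 5 ≠ s) :
    Subfield.closure ({s} : Set F) = ⊤ := by
  by_contra hK
  obtain ⟨d, hd, hcard⟩ := h1_su_card_subfield (Subfield.closure ({s} : Set F)) hK
  rw [Nat.card_eq_fintype_card (α := F), hF] at hcard
  have hk5 : Nat.card (Subfield.closure ({s} : Set F)) = 5 := by
    generalize Nat.card (Subfield.closure ({s} : Set F)) = k at hcard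
    have hdvd : k ∣ 25 := by
      rw [← hcard]
      exact dvd_pow_self k (by omega)
    have h25 : (25 : ℕ) = 5 ^ 2 := by norm_num
    rw [h25, Nat.dvd_prime_pow (by norm_num)] at hdvd
    obtain ⟨m, hm, hkm⟩ := hdvd
    subst hkm
    interval_cases m
    · rw [pow_zero, one_pow] at hcard
      omega
    · rfl
    · exfalso
      have : (5 ^ 2) ^ 2 ≤ (5 ^ 2) ^ d := Nat.pow_le_pow_right (by norm_num) hd
      rw [hcard] at this
      omega
  have := Cfsg.Agent.SL3G.h1_pow_card (Subfield.closure ({s} : Set F)) s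
    (Subfield.subset_closure (Set.mem_singleton s))
  rw [hk5] at this
  exact hs this

/-- **Q5.** -/
theorem q5 [Fintype F] (hF : Fintype.card F = 5 ^ 2) : JGoal F 5 := by
  have hF' : Fintype.card F = 25 := by rw [hF]; norm_num
  obtain ⟨f, hf⟩ := h8_exists_hom25 hF'
  let φ : SpecialLinearGroup (Fin 3) K25 →* SpecialLinearGroup (Fin 3) F := SpecialLinearGroup.map f
  set a : F := f 3 with ha
  set b : F := f ⟨3, 1⟩ with hb
  have hf0 : ∀ z : K25, z ≠ 0 → f z ≠ 0 := fun z hz h => hz (hf (by rw [h, map_zero]))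
  have ha0 : a ≠ 0 := hf0 _ (by decide)
  have hb0 : b ≠ 0 := hf0 _ (by decide)
  -- the images of the model elements
  have hu : φ h8_uK = U 5 a b := by
    apply Subtype.ext
    ext i j
    rw [h8_map_coe]
    fin_cases i <;> fin_cases j <;> simp [h8_uK, U, ha, hb]
  have hn : ((φ h8_nK : SpecialLinearGroup (Fin 3) F) : Matrix (Fin 3) (Fin 3) F)
      = !![0, 0, 1; 0, -1, 0; 1, 0, 0] := by
    ext i j
    rw [h8_map_coe]
    fin_cases i <;> fin_cases j <;> simp [h8_nK]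
  have hv : φ h8_nK * U 5 a b * (φ h8_nK)⁻¹ = φ h8_vK := by
    rw [← hu, ← map_inv, ← map_mul, ← map_mul, h8_conjK]
  have hcond : b + b ^ 5 + a * a ^ 5 = 0 := by
    have := congrArg f h8_cond5
    simpa [ha, hb] using this
  have hu_mem : U 5 a b ∈ SUJ F 5 := h8_U_mem5 hF' a b hcond
  have hg_mem : φ h8_nK ∈ SUJ F 5 := h8_n0_mem5 _ hn
  refine ⟨U 5 a b, φ h8_nK, hu_mem, hg_mem, ⟨a, b, ha0, rfl⟩, ?_⟩
  set H := Subgroup.closure
    ({U 5 a b, φ h8_nK * U 5 a b * (φ h8_nK)⁻¹} : Set (SpecialLinearGroup (Fin 3) F)) with hHdef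
  have hH : H ≤ SUJ F 5 := by
    rw [hHdef, Subgroup.closure_le]
    rintro x (rfl | rfl)
    · exact hu_mem
    · exact mul_mem (mul_mem hg_mem hu_mem) (inv_mem hg_mem)
  have huH : U 5 a b ∈ H := Subgroup.subset_closure (by simp)
  have hvH : φ h8_vK ∈ H := by
    rw [← hv]
    exact Subgroup.subset_closure (by simp)
  -- the word
  have hWH : φ h8_WK ∈ H := by
    have h1 : φ h8_WK ∈ (Subgroup.closure
        ({h8_uK, h8_vK} : Set (SpecialLinearGroup (Fin 3) K25))).map φ :=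
      Subgroup.mem_map_of_mem _ h8_WK_mem
    rw [MonoidHom.map_closure, Set.image_pair, hu, ← hv] at h1
    exact h1
  have hW : ∀ i j, ((φ h8_WK : SpecialLinearGroup (Fin 3) F) : Matrix (Fin 3) (Fin 3) F) i j
      = f ((!![⟨2, 1⟩, ⟨0, 4⟩, ⟨1, 3⟩; 0, ⟨3, 3⟩, ⟨1, 4⟩; 0, 0, ⟨1, 3⟩] :
          Matrix (Fin 3) (Fin 3) K25) i j) := by
    intro i j
    rw [h8_map_coe, h8_WK_coe]
  set s : F := f ⟨2, 1⟩ / f ⟨3, 3⟩ with hs
  have h33 : f ⟨3, 3⟩ ≠ 0 := hf0 _ (by decide)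
  have hmul : ∀ x ∈ Aset 5 H, s * x ∈ Aset 5 H := by
    intro x hx
    have := Aset_mul_of_upper hF H hH _ hWH (by rw [hW]; simp) (by rw [hW]; simp)
      (by rw [hW]; simp) x hx
    rw [hW, hW] at this
    simpa [hs] using this
  have hs5 : s ^ 5 ≠ s := by
    intro h
    apply h8_s5
    apply hf
    rw [map_mul, map_mul, map_pow, map_pow]
    rw [hs, div_pow] at h
    field_simp at h
    linear_combination (f ⟨3, 3⟩) * h
  have hcl : Subfield.closure ({s} : Set F) = ⊤ := h8_closure_top25 hF' s hs5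
  have hAll := Aset_univ hF H a ha0 ⟨b, huH⟩ s hmul hcl
  refine gen_top hF (by norm_num) H hH hAll ⟨φ h8_vK, hvH, ?_⟩
  rw [h8_map_coe]
  have : (h8_vK : Matrix (Fin 3) (Fin 3) K25) 2 0 = ⟨3, 1⟩ := by decide +kernel
  rw [this]
  exact hb0

end main

end Cfsg.Agent.SU3G
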