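import Cfsg.Agent.SU3G.Base

/-!
# S2283 swarm, piece FAM (helper9): the generic family

For `α` of norm one (`α ^ (q+1) = 1`, `α ≠ -1`) and `ε` of norm `-1`: explicit `u = U(a,b)` and `g` in `SUJ`
with `u * (g u g⁻¹) = n = antidiag(1+α, -α⁻¹, α/(1+α))`.
-/

set_option autoImplicit false

namespace Cfsg.Agent.SU3G

open Matrix Cfsg

variable {F : Type*} [Field F] [Fintype F] {q : ℕ}

/-- the Gram matrix of `hJ` -/
def h9_J : Matrix (Fin 3) (Fin 3) F := !![0, 0, 1; 0, 1, 0; 1, 0, 0]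

/-- membership in `SUJ` from a Gram identity, `Mb` being the entrywise `q`-th power of `M` -/
theorem h9_mem_SUJ_of_gram (hF : Fintype.card F = q ^ 2) (M : SpecialLinearGroup (Fin 3) F)
    (Mb : Matrix (Fin 3) (Fin 3) F) (hMb : ∀ i j, ((M : Matrix (Fin 3) (Fin 3) F) i j) ^ q = Mb i j)
    (hgram : (M : Matrix (Fin 3) (Fin 3) F)ᵀ * h9_J * Mb = h9_J) : M ∈ SUJ F q := by
  rw [mem_SUJ]
  intro x y
  have hy : ∀ i, (((M : Matrix (Fin 3) (Fin 3) F) *ᵥ y) i) ^ q = (Mb *ᵥ (fun j => (y j) ^ q)) i := by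
    intro i
    simp only [mulVec, dotProduct]
    rw [Cfsg.Agent.Helper7.Herm.sum_pow_q hF]
    apply Finset.sum_congr rfl
    intro j _
    rw [mul_pow, hMb]
  have e00 := congrFun (congrFun hgram 0) 0
  have e01 := congrFun (congrFun hgram 0) 1
  have e02 := congrFun (congrFun hgram 0) 2
  have e10 := congrFun (congrFun hgram 1) 0
  have e11 := congrFun (congrFun hgram 1) 1
  have e12 := congrFun (congrFun hgram 1) 2
  have e20 := congrFun (congrFun hgram 2) 0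
  have e21 := congrFun (congrFun hgram 2) 1
  have e22 := congrFun (congrFun hgram 2) 2
  simp only [hJ, hy]
  simp [h9_J, Matrix.mul_apply, Fin.sum_univ_three] at e00 e01 e02 e10 e11 e12 e20 e21 e22
  simp only [mulVec, dotProduct, Fin.sum_univ_three]
  linear_combination (x 0 * y 0 ^ q) * e00 + (x 0 * y 1 ^ q) * e01 + (x 0 * y 2 ^ q) * e02
    + (x 1 * y 0 ^ q) * e10 + (x 1 * y 1 ^ q) * e11 + (x 1 * y 2 ^ q) * e12
    + (x 2 * y 0 ^ q) * e20 + (x 2 * y 1 ^ q) * e21 + (x 2 * y 2 ^ q) * e22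

end Cfsg.Agent.SU3G

namespace Cfsg.Agent.SU3G

open Matrix Cfsg

variable {F : Type*} [Field F] [Fintype F] {q : ℕ}

theorem h9_neg_pow_q (hF : Fintype.card F = q ^ 2) (x : F) : (-x) ^ q = -(x ^ q) := by
  have h := Cfsg.Agent.Helper7.Herm.add_pow_q hF (-x) x
  have hq : q ≠ 0 := by
    have := Cfsg.Agent.Helper7.Herm.one_le_q hF
    omega
  rw [neg_add_cancel, zero_pow hq] at h
  linear_combination -h

theorem h9_natCast_pow_q (hF : Fintype.card F = q ^ 2) (n : ℕ) : ((n : F)) ^ q = n := by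
  induction n with
  | zero =>
    have hq : q ≠ 0 := by
      have := Cfsg.Agent.Helper7.Herm.one_le_q hF
      omega
    simp [hq]
  | succ k ih =>
    rw [Nat.cast_succ, Cfsg.Agent.Helper7.Herm.add_pow_q hF, ih, one_pow]

/-- `U(a,b) ∈ SUJ` iff (here: if) `b + b̄ + a ā = 0` -/
theorem h9_U_mem (hF : Fintype.card F = q ^ 2) (a b : F) (h : b + b ^ q + a * a ^ q = 0) :
    U q a b ∈ SUJ F q := by
  apply h9_mem_SUJ_of_gram hF (U q a b) !![1, a ^ q, b ^ q; 0, 1, -a; 0, 0, 1]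
  · intro i j
    have hq : q ≠ 0 := by
      have := Cfsg.Agent.Helper7.Herm.one_le_q hF
      omega
    fin_cases i <;> fin_cases j <;>
      simp [hq, h9_neg_pow_q hF, Cfsg.Agent.Helper7.Herm.pow_q_pow_q hF]
  · ext i j
    fin_cases i <;> fin_cases j <;>
      simp [h9_J, Matrix.mul_apply, Fin.sum_univ_three]
    linear_combination h

end Cfsg.Agent.SU3G

namespace Cfsg.Agent.SU3G

open Matrix Cfsg

variable {F : Type*} [Field F] [Fintype F] {q : ℕ}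

/-- `n = antidiag(x, -α⁻¹, α/x)` -/
def h9_n (α x : F) (hα : α ≠ 0) (hx : x ≠ 0) : SpecialLinearGroup (Fin 3) F :=
  ⟨!![0, 0, x; 0, -α⁻¹, 0; α / x, 0, 0], by simp [det_fin_three]; field_simp⟩

/-- `d = diag(1/x, α, x/α)` -/
def h9_d (α x : F) (hα : α ≠ 0) (hx : x ≠ 0) : SpecialLinearGroup (Fin 3) F :=
  ⟨!![x⁻¹, 0, 0; 0, α, 0; 0, 0, x / α], by simp [det_fin_three]; field_simp⟩

theorem h9_alpha_bar (α : F) (hα : α ^ (q + 1) = 1) : α ≠ 0 ∧ α ^ q = α⁻¹ := by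
  have hα0 : α ≠ 0 := by
    rintro rfl
    simp at hα
  refine ⟨hα0, ?_⟩
  rw [pow_succ] at hα
  field_simp
  exact hα

theorem h9_eps_bar (ε : F) (hε : ε ^ (q + 1) = -1) : ε ≠ 0 ∧ ε ^ q = -ε⁻¹ := by
  have hε0 : ε ≠ 0 := by
    rintro rfl
    simp at hε
  refine ⟨hε0, ?_⟩
  rw [pow_succ] at hε
  field_simp
  linear_combination hε

theorem h9_x_bar (hF : Fintype.card F = q ^ 2) (α : F) (hα : α ^ (q + 1) = 1) :
    (1 + α) ^ q = (1 + α) / α := by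
  obtain ⟨hα0, hb⟩ := h9_alpha_bar α hα
  rw [Cfsg.Agent.Helper7.Herm.add_pow_q hF, one_pow, hb]
  field_simp
  ring

theorem h9_n_mem (hF : Fintype.card F = q ^ 2) (α : F) (hα : α ^ (q + 1) = 1) (hα1 : 1 + α ≠ 0) :
    h9_n α (1 + α) (h9_alpha_bar α hα).1 hα1 ∈ SUJ F q := by
  obtain ⟨hα0, hb⟩ := h9_alpha_bar α hα
  have hxb := h9_x_bar hF α hα
  have hq : q ≠ 0 := by
    have := Cfsg.Agent.Helper7.Herm.one_le_q hF
    omega
  apply h9_mem_SUJ_of_gram hF _ !![0, 0, (1 + α) / α; 0, -α, 0; (1 + α)⁻¹, 0, 0]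
  · intro i j
    fin_cases i <;> fin_cases j <;>
      simp [h9_n, hq, h9_neg_pow_q hF, hb, hxb, div_pow, inv_pow]
    field_simp
  · ext i j
    fin_cases i <;> fin_cases j <;>
      simp [h9_n, h9_J, Matrix.mul_apply, Fin.sum_univ_three] <;> field_simp

theorem h9_d_mem (hF : Fintype.card F = q ^ 2) (α : F) (hα : α ^ (q + 1) = 1) (hα1 : 1 + α ≠ 0) :
    h9_d α (1 + α) (h9_alpha_bar α hα).1 hα1 ∈ SUJ F q := by
  obtain ⟨hα0, hb⟩ := h9_alpha_bar α hα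
  have hxb := h9_x_bar hF α hα
  have hq : q ≠ 0 := by
    have := Cfsg.Agent.Helper7.Herm.one_le_q hF
    omega
  apply h9_mem_SUJ_of_gram hF _ !![α / (1 + α), 0, 0; 0, α⁻¹, 0; 0, 0, (1 + α)]
  · intro i j
    fin_cases i <;> fin_cases j <;>
      simp [h9_d, hq, hb, hxb, div_pow, inv_pow]
    field_simp
  · ext i j
    fin_cases i <;> fin_cases j <;>
      simp [h9_d, h9_J, Matrix.mul_apply, Fin.sum_univ_three] <;> field_simp

end Cfsg.Agent.SU3G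

namespace Cfsg.Agent.SU3G

open Matrix Cfsg

variable {F : Type*} [Field F] [Fintype F] {q : ℕ}

@[simp] theorem h9_n_coe (α x : F) (hα : α ≠ 0) (hx : x ≠ 0) :
    ((h9_n α x hα hx : SpecialLinearGroup (Fin 3) F) : Matrix (Fin 3) (Fin 3) F) =
      !![0, 0, x; 0, -α⁻¹, 0; α / x, 0, 0] := rfl

@[simp] theorem h9_d_coe (α x : F) (hα : α ≠ 0) (hx : x ≠ 0) :
    ((h9_d α x hα hx : SpecialLinearGroup (Fin 3) F) : Matrix (Fin 3) (Fin 3) F) =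
      !![x⁻¹, 0, 0; 0, α, 0; 0, 0, x / α] := rfl

/-- the explicit matrix of `g = U(-xε/α, x/α) * n * d * U(ε/x, α²/x³)` -/
theorem h9_g_coe (hF : Fintype.card F = q ^ 2) (α ε : F) (hα : α ^ (q + 1) = 1) (hα1 : 1 + α ≠ 0)
    (hε : ε ^ (q + 1) = -1) :
    ((U q (-((1 + α) * ε / α)) ((1 + α) / α) * h9_n α (1 + α) (h9_alpha_bar α hα).1 hα1 *
      h9_d α (1 + α) (h9_alpha_bar α hα).1 hα1 * U q (ε / (1 + α)) (α ^ 2 / (1 + α) ^ 3) :
        SpecialLinearGroup (Fin 3) F) : Matrix (Fin 3) (Fin 3) F) =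
    !![1 / (1 + α), (1 + α) * ε / α + ε / (1 + α) ^ 2, (1 + α) ^ 2 / α + 1 + α ^ 2 / (1 + α) ^ 4;
       -(α / (ε * (1 + α))), -1 - α / (1 + α) ^ 2, -(α / (ε * (1 + α))) - α ^ 3 / (ε * (1 + α) ^ 4);
       α / (1 + α) ^ 2, α * ε / (1 + α) ^ 3, α ^ 3 / (1 + α) ^ 5] := by
  obtain ⟨hα0, hb⟩ := h9_alpha_bar α hα
  obtain ⟨hε0, hεb⟩ := h9_eps_bar ε hε
  have hxb := h9_x_bar hF α hα
  have hq : q ≠ 0 := by
    have := Cfsg.Agent.Helper7.Herm.one_le_q hF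
    omega
  simp only [Matrix.SpecialLinearGroup.coe_mul, U_coe, h9_n_coe, h9_d_coe]
  ext i j
  fin_cases i <;> fin_cases j <;>
    simp [Matrix.mul_apply, Fin.sum_univ_three, h9_neg_pow_q hF, hb, hεb, hxb, div_pow, mul_pow] <;>
    field_simp <;> ring

/-- the key matrix identity `u * g * u = n * g` -/
theorem h9_key (α ε : F) (hα0 : α ≠ 0) (hα1 : 1 + α ≠ 0) (hε0 : ε ≠ 0) :
    (!![1, (1 + α) ^ 2 * ε / α, (1 + α) * (3 + α); 0, 1, (1 + α) ^ 2 / (α * ε); 0, 0, 1] : Matrix (Fin 3) (Fin 3) F) *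
    !![1 / (1 + α), (1 + α) * ε / α + ε / (1 + α) ^ 2, (1 + α) ^ 2 / α + 1 + α ^ 2 / (1 + α) ^ 4;
       -(α / (ε * (1 + α))), -1 - α / (1 + α) ^ 2, -(α / (ε * (1 + α))) - α ^ 3 / (ε * (1 + α) ^ 4);
       α / (1 + α) ^ 2, α * ε / (1 + α) ^ 3, α ^ 3 / (1 + α) ^ 5] *
    !![1, (1 + α) ^ 2 * ε / α, (1 + α) * (3 + α); 0, 1, (1 + α) ^ 2 / (α * ε); 0, 0, 1] =
    !![0, 0, 1 + α; 0, -α⁻¹, 0; α / (1 + α), 0, 0] *
    !![1 / (1 + α), (1 + α) * ε / α + ε / (1 + α) ^ 2, (1 + α) ^ 2 / α + 1 + α ^ 2 / (1 + α) ^ 4;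
       -(α / (ε * (1 + α))), -1 - α / (1 + α) ^ 2, -(α / (ε * (1 + α))) - α ^ 3 / (ε * (1 + α) ^ 4);
       α / (1 + α) ^ 2, α * ε / (1 + α) ^ 3, α ^ 3 / (1 + α) ^ 5] := by
  ext i j
  fin_cases i <;> fin_cases j <;>
    simp [Matrix.mul_apply, Fin.sum_univ_three] <;>
    field_simp <;> ring

/-- **FAM**: the generic family. -/
theorem fam (hF : Fintype.card F = q ^ 2) (α ε : F) (hα : α ^ (q + 1) = 1) (hα1 : α + 1 ≠ 0)
    (hε : ε ^ (q + 1) = -1) :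
    ∃ u g : SpecialLinearGroup (Fin 3) F, u ∈ SUJ F q ∧ g ∈ SUJ F q ∧ (∃ a b : F, a ≠ 0 ∧ u = U q a b) ∧
      ((u * (g * u * g⁻¹) : SpecialLinearGroup (Fin 3) F) : Matrix (Fin 3) (Fin 3) F) =
        !![0, 0, 1 + α; 0, -α⁻¹, 0; α / (1 + α), 0, 0] := by
  have hx : 1 + α ≠ 0 := by rwa [add_comm] at hα1
  obtain ⟨hα0, hb⟩ := h9_alpha_bar α hα
  obtain ⟨hε0, hεb⟩ := h9_eps_bar ε hε
  have hxb := h9_x_bar hF α hα
  have h3 : (3 : F) ^ q = 3 := by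
    have := h9_natCast_pow_q hF 3
    exact_mod_cast this
  have haq : ((1 + α) ^ 2 * ε / α) ^ q = -((1 + α) ^ 2 / (α * ε)) := by
    rw [div_pow, mul_pow, pow_right_comm (1 + α) 2 q, hxb, hεb, hb]
    field_simp
  have hbq : ((1 + α) * (3 + α)) ^ q = (1 + α) / α * (3 + α⁻¹) := by
    rw [mul_pow, hxb, Cfsg.Agent.Helper7.Herm.add_pow_q hF, h3, hb]
  have ha1q : (-((1 + α) * ε / α)) ^ q = (1 + α) / ε := by
    rw [h9_neg_pow_q hF, div_pow, mul_pow, hxb, hεb, hb]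
    field_simp
  have hb1q : ((1 + α) / α) ^ q = 1 + α := by
    rw [div_pow, hxb, hb]
    field_simp
  have ha4q : (ε / (1 + α)) ^ q = -(α / (ε * (1 + α))) := by
    rw [div_pow, hxb, hεb]
    field_simp
  have hb4q : (α ^ 2 / (1 + α) ^ 3) ^ q = α / (1 + α) ^ 3 := by
    rw [div_pow, pow_right_comm α 2 q, pow_right_comm (1 + α) 3 q, hxb, hb]
    field_simp
  have hu_mem : U q ((1 + α) ^ 2 * ε / α) ((1 + α) * (3 + α)) ∈ SUJ F q :=
    h9_U_mem hF _ _ (by rw [haq, hbq]; field_simp; ring)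
  have hg1 : U q (-((1 + α) * ε / α)) ((1 + α) / α) ∈ SUJ F q :=
    h9_U_mem hF _ _ (by rw [ha1q, hb1q]; field_simp; ring)
  have hg4 : U q (ε / (1 + α)) (α ^ 2 / (1 + α) ^ 3) ∈ SUJ F q :=
    h9_U_mem hF _ _ (by rw [ha4q, hb4q]; field_simp; ring)
  have hg_mem : U q (-((1 + α) * ε / α)) ((1 + α) / α) * h9_n α (1 + α) hα0 hx *
      h9_d α (1 + α) hα0 hx * U q (ε / (1 + α)) (α ^ 2 / (1 + α) ^ 3) ∈ SUJ F q :=
    mul_mem (mul_mem (mul_mem hg1 (h9_n_mem hF α hα hx)) (h9_d_mem hF α hα hx)) hg4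
  have hgc := h9_g_coe hF α ε hα hx hε
  have hkey : U q ((1 + α) ^ 2 * ε / α) ((1 + α) * (3 + α)) *
      (U q (-((1 + α) * ε / α)) ((1 + α) / α) * h9_n α (1 + α) hα0 hx *
        h9_d α (1 + α) hα0 hx * U q (ε / (1 + α)) (α ^ 2 / (1 + α) ^ 3)) *
      U q ((1 + α) ^ 2 * ε / α) ((1 + α) * (3 + α)) =
      h9_n α (1 + α) hα0 hx * (U q (-((1 + α) * ε / α)) ((1 + α) / α) * h9_n α (1 + α) hα0 hx *
        h9_d α (1 + α) hα0 hx * U q (ε / (1 + α)) (α ^ 2 / (1 + α) ^ 3)) := by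
    apply Subtype.ext
    change (U q ((1 + α) ^ 2 * ε / α) ((1 + α) * (3 + α)) : Matrix (Fin 3) (Fin 3) F) *
      ((U q (-((1 + α) * ε / α)) ((1 + α) / α) * h9_n α (1 + α) hα0 hx *
        h9_d α (1 + α) hα0 hx * U q (ε / (1 + α)) (α ^ 2 / (1 + α) ^ 3) : SpecialLinearGroup (Fin 3) F) : Matrix (Fin 3) (Fin 3) F) *
      (U q ((1 + α) ^ 2 * ε / α) ((1 + α) * (3 + α)) : Matrix (Fin 3) (Fin 3) F) =
      (h9_n α (1 + α) hα0 hx : Matrix (Fin 3) (Fin 3) F) *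
      ((U q (-((1 + α) * ε / α)) ((1 + α) / α) * h9_n α (1 + α) hα0 hx *
        h9_d α (1 + α) hα0 hx * U q (ε / (1 + α)) (α ^ 2 / (1 + α) ^ 3) : SpecialLinearGroup (Fin 3) F) : Matrix (Fin 3) (Fin 3) F)
    rw [hgc, U_coe, h9_n_coe, haq, neg_neg]
    exact h9_key α ε hα0 hx hε0
  refine ⟨_, _, hu_mem, hg_mem, ⟨_, _, ?_, rfl⟩, ?_⟩
  · have : (1 + α) ^ 2 ≠ 0 := pow_ne_zero _ hx
    exact div_ne_zero (mul_ne_zero this hε0) hα0
  · have h2 : ∀ u g n : SpecialLinearGroup (Fin 3) F, u * g * u = n * g → u * (g * u * g⁻¹) = n := by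
      intro u g n h
      calc u * (g * u * g⁻¹) = (u * g * u) * g⁻¹ := by group
        _ = n := by rw [h]; group
    rw [h2 _ _ _ hkey]
    rfl

end Cfsg.Agent.SU3G
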