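import Cfsg.Agent.SU3G.Base
import Cfsg.Agent.SU3G.H1_NTIface
import Cfsg.Agent.SU3G.H5_MOD
import Cfsg.Agent.SU3G.H9_Fam
import Cfsg.Agent.SU3G.H1_GEN3

/-!
# S2283 swarm, piece ASM (helper9): the generic case `q ≠ 5, 8`

From NT (`nt_alpha`, `nt_eps`), FAM (`fam`), MOD (`Aset_mul_of_upper`, `Aset_univ`) and GEN (`gen_top`):
`JGoal F q` for every `q ≥ 3`, `q ≠ 5, 8`.
-/

set_option autoImplicit false

namespace Cfsg.Agent.SU3G

open Matrix Cfsg

variable {F : Type*} [Field F] [Fintype F] {q : ℕ}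

/-- The generic case: two conjugate regular unipotents generating `SUJ F q`. -/
theorem generic (hF : Fintype.card F = q ^ 2) (hq : 3 ≤ q) (h5 : q ≠ 5) (h8 : q ≠ 8) : JGoal F q := by
  obtain ⟨α, hα, hα1, hcl⟩ := nt_alpha hF hq h5 h8
  obtain ⟨ε, hε⟩ := nt_eps (q := q) hF
  obtain ⟨u, g, hu, hg, ⟨a, b, ha, rfl⟩, hn⟩ := fam hF α ε hα hα1 hε
  refine ⟨U q a b, g, hu, hg, ⟨a, b, ha, rfl⟩, ?_⟩
  set H := Subgroup.closure ({U q a b, g * U q a b * g⁻¹} : Set (SpecialLinearGroup (Fin 3) F)) with hHdef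
  have hH : H ≤ SUJ F q := by
    rw [hHdef, Subgroup.closure_le]
    rintro x (rfl | rfl)
    · exact hu
    · exact mul_mem (mul_mem hg hu) (inv_mem hg)
  have huH : U q a b ∈ H := Subgroup.subset_closure (by simp)
  have hvH : g * U q a b * g⁻¹ ∈ H := Subgroup.subset_closure (by simp)
  have hnH : U q a b * (g * U q a b * g⁻¹) ∈ H := mul_mem huH hvH
  have hα0 : α ≠ 0 := by
    rintro rfl
    simp at hα
  have hn2 : (((U q a b * (g * U q a b * g⁻¹)) * (U q a b * (g * U q a b * g⁻¹)) : SpecialLinearGroup (Fin 3) F) : Matrix (Fin 3) (Fin 3) F)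
      = !![α, 0, 0; 0, α⁻¹ * α⁻¹, 0; 0, 0, α] := by
    have hmm : (((U q a b * (g * U q a b * g⁻¹)) * (U q a b * (g * U q a b * g⁻¹)) : SpecialLinearGroup (Fin 3) F) : Matrix (Fin 3) (Fin 3) F)
        = ((U q a b * (g * U q a b * g⁻¹) : SpecialLinearGroup (Fin 3) F) : Matrix (Fin 3) (Fin 3) F) *
          ((U q a b * (g * U q a b * g⁻¹) : SpecialLinearGroup (Fin 3) F) : Matrix (Fin 3) (Fin 3) F) := rfl
    rw [hmm, hn]
    ext i j
    have hα1' : 1 + α ≠ 0 := by rwa [add_comm] at hα1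
    fin_cases i <;> fin_cases j <;> simp [Matrix.mul_apply, Fin.sum_univ_three] <;> field_simp
  have hmul : ∀ x ∈ Aset q H, α ^ 3 * x ∈ Aset q H := by
    intro x hx
    have := Aset_mul_of_upper hF H hH _ (mul_mem hnH hnH) (by rw [hn2]; simp) (by rw [hn2]; simp)
      (by rw [hn2]; simp) x hx
    rw [hn2] at this
    have h3 : α / (α⁻¹ * α⁻¹) = α ^ 3 := by field_simp
    simpa [h3] using this
  have hAll := Aset_univ hF H a ha ⟨b, huH⟩ (α ^ 3) hmul hcl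
  refine gen_top hF hq H hH hAll ⟨_, hnH, ?_⟩
  rw [hn]
  simp
  exact ⟨hα0, by rwa [add_comm] at hα1⟩

end Cfsg.Agent.SU3G
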