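import Cfsg.Agent.SU3G.H5_MOD
import Cfsg.Agent.SU3G.H1_NTIface

/-!
# S2283 swarm, piece GEN/G1 (helper5)

If `H ≤ SUJ F q` and `Aset q H = F`, then `H` contains every `U q a b` with `b + b^q + a a^q = 0`
(the whole unipotent radical `Q` of the Borel subgroup of `SUJ`).
-/

set_option autoImplicit false

namespace Cfsg.Agent.SU3G

open Matrix Cfsg

variable {F : Type*} [Field F] [Fintype F] {q : ℕ}

/-- `U q a b ∈ SUJ` forces the norm–trace relation (converse of `U_mem`). -/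
theorem h5_U_cond (hF : Fintype.card F = q ^ 2) (a b : F) (h : U q a b ∈ SUJ F q) :
    b + b ^ q + a * a ^ q = 0 := by
  have hq : q ≠ 0 := by
    have := Cfsg.Agent.Helper7.Herm.one_le_q hF
    omega
  have h1 := (mem_SUJ (U q a b)).1 h ![0, 0, 1] ![0, 0, 1]
  rw [U_coe] at h1
  simp [hJ, Matrix.mulVec, dotProduct, Fin.sum_univ_three, zero_pow hq] at h1
  -- h1 : b + -(a ^ q) * (-(a ^ q)) ^ q + b ^ q = 0   (up to simp normal form)
  have h2 : (-(a ^ q)) ^ q = -a := by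
    rw [h5_neg_pow_q hF, Cfsg.Agent.Helper7.Herm.pow_q_pow_q hF]
  rw [h2] at h1
  linear_combination h1

/-- commutators: `U(0, a' a^q - a a'^q) ∈ H` whenever `U(a,·), U(a',·) ∈ H`. -/
theorem h5_comm_mem (hF : Fintype.card F = q ^ 2) (H : Subgroup (SpecialLinearGroup (Fin 3) F))
    (a b a' b' : F) (h1 : U q a b ∈ H) (h2 : U q a' b' ∈ H) :
    U q 0 (a' * a ^ q - a * a' ^ q) ∈ H := by
  have h := H.mul_mem (H.mul_mem h1 h2) (H.inv_mem (H.mul_mem h2 h1))
  rw [h5_U_mul hF, h5_U_mul hF, h5_U_inv hF, h5_U_mul hF] at h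
  have e1 : a + a' + -(a' + a) = 0 := by ring
  have e2 : b + b' - a * a' ^ q + (-(b' + b - a' * a ^ q) - (a' + a) * (a' + a) ^ q) -
      (a + a') * (-(a' + a)) ^ q = a' * a ^ q - a * a' ^ q := by
    rw [h5_neg_pow_q hF]
    have : a + a' = a' + a := add_comm _ _
    rw [this]
    ring
  rw [e1, e2] at h
  exact h

/-- every `U(0,c)` of trace zero lies in `H` once `Aset q H = F` (no `H ≤ SUJ` needed). -/
theorem h5_U0_mem (hF : Fintype.card F = q ^ 2) (H : Subgroup (SpecialLinearGroup (Fin 3) F))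
    (hA : ∀ a : F, a ∈ Aset q H) (c : F) (hc : c + c ^ q = 0) : U q 0 c ∈ H := by
  obtain ⟨x, hx⟩ := h1_su_hilbert90 q hF (h1_su_two_le hF) c hc
  obtain ⟨b1, hb1⟩ := hA 1
  obtain ⟨b2, hb2⟩ := hA (-x)
  have h := h5_comm_mem hF H 1 b1 (-x) b2 hb1 hb2
  have e : -x * (1 : F) ^ q - 1 * (-x) ^ q = c := by
    rw [h5_neg_pow_q hF, one_pow]
    linear_combination hx
  rw [e] at h
  exact h

/-- **GEN/G1**: `H ≤ SUJ` with `Aset q H = F` contains all of `Q = {U q a b}`. -/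
theorem gen_Q (hF : Fintype.card F = q ^ 2) (H : Subgroup (SpecialLinearGroup (Fin 3) F))
    (hH : H ≤ SUJ F q) (hA : ∀ a : F, a ∈ Aset q H) :
    ∀ a b : F, b + b ^ q + a * a ^ q = 0 → U q a b ∈ H := by
  intro a b hab
  obtain ⟨b', hb'⟩ := hA a
  have hab' := h5_U_cond hF a b' (hH hb')
  have hc : (b - b') + (b - b') ^ q = 0 := by
    have h1 : (b - b') ^ q = b ^ q - b' ^ q := by
      rw [sub_eq_add_neg, Cfsg.Agent.Helper7.Herm.add_pow_q hF, h5_neg_pow_q hF, ← sub_eq_add_neg]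
    rw [h1]
    linear_combination hab - hab'
  have h0 := h5_U0_mem hF H hA (b - b') hc
  have h := H.mul_mem h0 hb'
  rw [h5_U_mul hF] at h
  have hq : q ≠ 0 := by
    have := Cfsg.Agent.Helper7.Herm.one_le_q hF
    omega
  have e1 : (0 : F) + a = a := zero_add a
  have e2 : b - b' + b' - 0 * a ^ q = b := by ring
  rw [e1, e2] at h
  exact h

end Cfsg.Agent.SU3G
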