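import Mathlib

/-!
# A computable model of the field with 64 elements (helper8, S2283 swarm)

`K8 = (ZMod 2)[s]/(s³ + s + 1)` as a structure with three coordinates, and
`K64 = K8[ω]/(ω² + ω + 1)` as `QuadraticAlgebra K8 1 1`.  Equality of matrices over `K64` is
decidable by evaluation, and `K64` embeds into every field with 64 elements.
-/

set_option autoImplicit false

namespace Cfsg.Agent.SU3G

/-- `(ZMod 2)[s]/(s³ + s + 1)`: the element `x0 + x1 s + x2 s²`. -/
structure K8 : Type where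
  x0 : ZMod 2
  x1 : ZMod 2
  x2 : ZMod 2
deriving DecidableEq, Fintype

namespace K8

instance : Zero K8 := ⟨⟨0, 0, 0⟩⟩
instance : One K8 := ⟨⟨1, 0, 0⟩⟩
instance : Add K8 := ⟨fun a b => ⟨a.x0 + b.x0, a.x1 + b.x1, a.x2 + b.x2⟩⟩
instance : Neg K8 := ⟨fun a => a⟩
instance : Mul K8 := ⟨fun a b =>
  ⟨a.x0 * b.x0 + a.x1 * b.x2 + a.x2 * b.x1,
   a.x0 * b.x1 + a.x1 * b.x0 + a.x1 * b.x2 + a.x2 * b.x1 + a.x2 * b.x2,
   a.x0 * b.x2 + a.x2 * b.x0 + a.x1 * b.x1 + a.x2 * b.x2⟩⟩

theorem mul_def (a b : K8) : a * b =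
  ⟨a.x0 * b.x0 + a.x1 * b.x2 + a.x2 * b.x1,
   a.x0 * b.x1 + a.x1 * b.x0 + a.x1 * b.x2 + a.x2 * b.x1 + a.x2 * b.x2,
   a.x0 * b.x2 + a.x2 * b.x0 + a.x1 * b.x1 + a.x2 * b.x2⟩ := rfl

theorem add_def (a b : K8) : a + b = ⟨a.x0 + b.x0, a.x1 + b.x1, a.x2 + b.x2⟩ := rfl

instance : CommRing K8 where
  add_assoc := by decide +kernel
  zero_add := by decide +kernel
  add_zero := by decide +kernel
  add_comm := by decide +kernel
  nsmul := nsmulRec
  zsmul := zsmulRec
  neg_add_cancel := by decide +kernel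
  mul_assoc := by decide +kernel
  one_mul := by decide +kernel
  mul_one := by decide +kernel
  zero_mul := by decide +kernel
  mul_zero := by decide +kernel
  left_distrib := by decide +kernel
  right_distrib := by decide +kernel
  mul_comm := by decide +kernel

end K8

/-- the model of the field with 64 elements. -/
abbrev K64 : Type := QuadraticAlgebra K8 1 1

instance h8_fintypeK64 : Fintype K64 :=
  Fintype.ofEquiv (K8 × K8) (QuadraticAlgebra.equivProd (1 : K8) 1).symm

theorem h8_K64_inv : ∀ z : K64, z ≠ 0 → ∃ w : K64, z * w = 1 := by decide +kernel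

/-- the characteristic of a field with `2 ^ k` elements is `2`. -/
theorem h8_charP_two_of_card {F : Type*} [Field F] [Fintype F] {k : ℕ}
    (hF : Fintype.card F = 2 ^ k) : CharP F 2 := by
  obtain ⟨n, hq, hcard⟩ := FiniteField.card F (ringChar F)
  have hdvd : ringChar F ∣ 2 ^ k := by
    rw [← hF, hcard]
    exact dvd_pow_self _ n.ne_zero
  have hdvd' : ringChar F ∣ 2 := hq.dvd_of_dvd_pow hdvd
  have heq : ringChar F = 2 :=
    ((Nat.dvd_prime Nat.prime_two).mp hdvd').resolve_left hq.one_lt.ne'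
  rw [← heq]
  exact ringChar.charP F

/-- the ring homomorphism `K8 → F` attached to a root `s` of `X³ + X + 1`
(written `s ^ 3 = s + 1`) in a ring of characteristic `2`. -/
def h8_K8hom {F : Type*} [CommRing F] [CharP F 2] (s : F) (hs : s ^ 3 = s + 1) : K8 →+* F where
  toFun a := ZMod.castHom (dvd_refl 2) F a.x0 + ZMod.castHom (dvd_refl 2) F a.x1 * s
    + ZMod.castHom (dvd_refl 2) F a.x2 * s ^ 2
  map_one' := by
    show ZMod.castHom (dvd_refl 2) F 1 + ZMod.castHom (dvd_refl 2) F 0 * s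
      + ZMod.castHom (dvd_refl 2) F 0 * s ^ 2 = 1
    rw [map_one, map_zero]; ring
  map_zero' := by
    show ZMod.castHom (dvd_refl 2) F 0 + ZMod.castHom (dvd_refl 2) F 0 * s
      + ZMod.castHom (dvd_refl 2) F 0 * s ^ 2 = 0
    rw [map_zero]; ring
  map_add' a b := by
    show ZMod.castHom (dvd_refl 2) F (a.x0 + b.x0) + ZMod.castHom (dvd_refl 2) F (a.x1 + b.x1) * s
      + ZMod.castHom (dvd_refl 2) F (a.x2 + b.x2) * s ^ 2 = _
    simp only [map_add]; ring
  map_mul' a b := by
    show ZMod.castHom (dvd_refl 2) F (a.x0 * b.x0 + a.x1 * b.x2 + a.x2 * b.x1)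
      + ZMod.castHom (dvd_refl 2) F
          (a.x0 * b.x1 + a.x1 * b.x0 + a.x1 * b.x2 + a.x2 * b.x1 + a.x2 * b.x2) * s
      + ZMod.castHom (dvd_refl 2) F (a.x0 * b.x2 + a.x2 * b.x0 + a.x1 * b.x1 + a.x2 * b.x2) * s ^ 2
      = _
    simp only [map_add, map_mul]
    linear_combination
      (-(ZMod.castHom (dvd_refl 2) F a.x1 * ZMod.castHom (dvd_refl 2) F b.x2
        + ZMod.castHom (dvd_refl 2) F a.x2 * ZMod.castHom (dvd_refl 2) F b.x1
        + ZMod.castHom (dvd_refl 2) F a.x2 * ZMod.castHom (dvd_refl 2) F b.x2 * s)) * hs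

/-- a finite field has a multiplicative generator. -/
theorem h8_exists_generator (F : Type*) [Field F] [Fintype F] :
    ∃ g : Fˣ, orderOf g = Fintype.card F - 1 := by
  classical
  obtain ⟨g, hg⟩ := IsCyclic.exists_generator (α := Fˣ)
  refine ⟨g, ?_⟩
  rw [orderOf_eq_card_of_forall_mem_zpowers hg, Nat.card_eq_fintype_card, Fintype.card_units]

/-- a field with 64 elements contains a root of `X³ + X + 1` and a root of `X² + X + 1`. -/
theorem h8_exists_roots64 {F : Type*} [Field F] [Fintype F] (hF : Fintype.card F = 64) :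
    (∃ s : F, s ^ 3 = s + 1) ∧ ∃ w : F, w * w = 1 + w := by
  have hchar : CharP F 2 := h8_charP_two_of_card (k := 6) (by rw [hF]; norm_num)
  have h2 : (2 : F) = 0 := by
    have := CharP.cast_eq_zero F 2
    exact_mod_cast this
  obtain ⟨g, hg⟩ := h8_exists_generator F
  rw [hF] at hg
  have hg63 : (g : F) ^ 63 = 1 := by
    have := pow_orderOf_eq_one g
    rw [hg] at this
    have h' := congrArg (fun u : Fˣ => (u : F)) this
    simpa using h'
  have hne : ∀ k : ℕ, 0 < k → k < 63 → (g : F) ^ k ≠ 1 := by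
    intro k hk0 hk h
    have h' : g ^ k = 1 := by
      apply Units.ext
      simpa using h
    have := orderOf_dvd_of_pow_eq_one h'
    rw [hg] at this
    have := Nat.le_of_dvd hk0 this
    omega
  constructor
  · set t : F := (g : F) ^ 9 with ht
    have ht7 : t ^ 7 = 1 := by rw [ht, ← pow_mul]; exact hg63
    have ht1 : t ≠ 1 := hne 9 (by norm_num) (by norm_num)
    have hsum : t ^ 6 + t ^ 5 + t ^ 4 + t ^ 3 + t ^ 2 + t + 1 = 0 := by
      have h0 : (t - 1) * (t ^ 6 + t ^ 5 + t ^ 4 + t ^ 3 + t ^ 2 + t + 1) = 0 := by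
        linear_combination ht7
      rcases mul_eq_zero.mp h0 with h | h
      · exact absurd (sub_eq_zero.mp h) ht1
      · exact h
    have hprod : (t ^ 3 + t + 1) * (t ^ 3 + t ^ 2 + 1) = 0 := by
      linear_combination hsum + t ^ 3 * h2
    rcases mul_eq_zero.mp hprod with h | h
    · refine ⟨t, ?_⟩
      linear_combination h - (t + 1) * h2
    · refine ⟨t ^ 6, ?_⟩
      linear_combination (t ^ 4) * h + (t ^ 11 + t ^ 4 - 1) * ht7 - (t ^ 6 + 1) * h2
  · set w : F := (g : F) ^ 21 with hw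
    have hw3 : w ^ 3 = 1 := by rw [hw, ← pow_mul]; exact hg63
    have hw1 : w ≠ 1 := hne 21 (by norm_num) (by norm_num)
    have hsum : w ^ 2 + w + 1 = 0 := by
      have h0 : (w - 1) * (w ^ 2 + w + 1) = 0 := by linear_combination hw3
      rcases mul_eq_zero.mp h0 with h | h
      · exact absurd (sub_eq_zero.mp h) hw1
      · exact h
    refine ⟨w, ?_⟩
    linear_combination hsum - (w + 1) * h2

/-- `K64` embeds into every field with 64 elements. -/
theorem h8_exists_hom64 {F : Type*} [Field F] [Fintype F] (hF : Fintype.card F = 64) :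
    ∃ f : K64 →+* F, Function.Injective f := by
  have hchar : CharP F 2 := h8_charP_two_of_card (k := 6) (by rw [hF]; norm_num)
  obtain ⟨⟨s, hs⟩, ⟨w, hw⟩⟩ := h8_exists_roots64 hF
  let φ : K8 →+* F := h8_K8hom s hs
  let _ : Algebra K8 F := φ.toAlgebra
  have hw' : w * w = (1 : K8) • (1 : F) + (1 : K8) • w := by
    rw [one_smul, one_smul, hw]
  let g : K64 →ₐ[K8] F := QuadraticAlgebra.lift ⟨w, hw'⟩
  refine ⟨g.toRingHom, ?_⟩
  rw [injective_iff_map_eq_zero]
  intro z hz
  by_contra hne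
  obtain ⟨y, hy⟩ := h8_K64_inv z hne
  have : g.toRingHom (z * y) = 1 := by rw [hy, map_one]
  rw [map_mul, hz, zero_mul] at this
  exact zero_ne_one this

end Cfsg.Agent.SU3G
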